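import Groth.Agent.ArtFunLib.Basic
import Mathlib.RingTheory.LocalRing.Pullback

/-!
# Fibre products in `Art Λ k`, comparison maps and smooth morphisms
-/

universe u v

open CategoryTheory IsLocalRing ArtFun

namespace Groth.Agent.ArtFunLib

variable {Λ : Type u} {k : Type u} [CommRing Λ] [Field k] [Algebra Λ k]

section Maps

variable (F : Art Λ k ⥤ Type v)

theorem map_map {A B C : Art Λ k} (f : A ⟶ B) (g : B ⟶ C) (x : F.obj A) :
    F.map g (F.map f x) = F.map (f ≫ g) x := by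
  rw [F.map_comp]; rfl

theorem map_id' {A : Art Λ k} (x : F.obj A) : F.map (𝟙 A) x = x := by
  rw [F.map_id]; rfl

theorem map_inv_map {A B : Art Λ k} (f : A ⟶ B) [IsIso f] (x : F.obj A) :
    F.map (inv f) (F.map f x) = x := by
  rw [map_map, IsIso.hom_inv_id, map_id']

theorem map_map_inv {A B : Art Λ k} (f : A ⟶ B) [IsIso f] (x : F.obj B) :
    F.map f (F.map (inv f) x) = x := by
  rw [map_map, IsIso.inv_hom_id, map_id']

theorem map_bijective {A B : Art Λ k} (f : A ⟶ B) [IsIso f] : Function.Bijective (F.map f) :=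
  Function.bijective_iff_has_inverse.2 ⟨F.map (inv f), map_inv_map F f, map_map_inv F f⟩

theorem nat_app {G : Art Λ k ⥤ Type v} (η : F ⟶ G) {A B : Art Λ k} (f : A ⟶ B) (x : F.obj A) :
    η.app B (F.map f x) = G.map f (η.app A x) := NatTrans.naturality_apply η f x

theorem base_subsingleton {A : Art Λ k} (f g : A ⟶ Art.base Λ k) : f = g := by
  rw [Art.eq_toBase f, Art.eq_toBase g]

end Maps

theorem hom_ext_apply {A B : Art Λ k} {f g : A ⟶ B} (h : ∀ a, f a = g a) : f = g :=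
  Art.hom_ext (AlgHom.ext h)

theorem comp_apply' {A B C : Art Λ k} (f : A ⟶ B) (g : B ⟶ C) (a : A) : (f ≫ g) a = g (f a) := rfl

section FibreProd

variable {B A A' A'' : Art Λ k} {p' : B ⟶ A'} {p'' : B ⟶ A''} {f' : A' ⟶ A} {f'' : A'' ⟶ A}

theorem IsFibreProd.hom_ext (h : Art.IsFibreProd p' p'' f' f'') {T : Art Λ k} {g₁ g₂ : T ⟶ B}
    (h₁ : g₁ ≫ p' = g₂ ≫ p') (h₂ : g₁ ≫ p'' = g₂ ≫ p'') : g₁ = g₂ := hom_ext_apply fun t => h.inj _ _
  (by rw [← comp_apply' g₁ p', h₁, comp_apply']) (by rw [← comp_apply' g₁ p'', h₂, comp_apply'])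

theorem IsFibreProd.exists_lift (h : Art.IsFibreProd p' p'' f' f'') {T : Art Λ k} (g' : T ⟶ A')
    (g'' : T ⟶ A'') (hg : g' ≫ f' = g'' ≫ f'') :
    ∃ g : T ⟶ B, g ≫ p' = g' ∧ g ≫ p'' = g'' := by
  have hb : ∀ t : T, ∃ b : B, p' b = g' t ∧ p'' b = g'' t := fun t =>
    h.surj _ _ (by rw [← comp_apply', hg, comp_apply'])
  choose b hb' hb'' using hb
  let g : T →ₐ[Λ] B :=
    { toFun := b
      map_one' := h.inj _ _ (by simp [hb']) (by simp [hb''])
      map_mul' := fun x y => h.inj _ _ (by simp [hb']) (by simp [hb''])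
      map_zero' := h.inj _ _ (by simp [hb']) (by simp [hb''])
      map_add' := fun x y => h.inj _ _ (by simp [hb']) (by simp [hb''])
      commutes' := fun r => h.inj _ _ (by simp [hb']) (by simp [hb'']) }
  refine ⟨⟨g, AlgHom.ext fun t => ?_⟩, hom_ext_apply hb', hom_ext_apply hb''⟩
  change B.res (b t) = T.res t
  rw [← Art.res_app p' (b t), hb', Art.res_app]

theorem IsFibreProd.symm (h : Art.IsFibreProd p' p'' f' f'') : Art.IsFibreProd p'' p' f'' f' :=
  ⟨h.w.symm, fun a b h₁ h₂ => h.inj a b h₂ h₁, fun a b e => (h.surj b a e.symm).imp fun _ => And.symm⟩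

theorem IsFibreProd.surjective_fst (h : Art.IsFibreProd p' p'' f' f'') (hf : Function.Surjective f'') :
    Function.Surjective p' := fun a => by
  obtain ⟨a'', ha⟩ := hf (f' a)
  obtain ⟨b, hb, -⟩ := h.surj a a'' ha.symm
  exact ⟨b, hb⟩

theorem IsFibreProd.bijective_fst (h : Art.IsFibreProd p' p'' f' f'') (hf : Function.Bijective f'') :
    Function.Bijective p' :=
  ⟨fun a b e => h.inj a b e (hf.1 (by rw [← h.w_apply, ← h.w_apply, e])), IsFibreProd.surjective_fst h hf.2⟩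

/-- Splitting a fibre product along a factorisation of the second map. -/
theorem IsFibreProd.split {M A₁ : Art Λ k} {p : A'' ⟶ A₁} {q : A₁ ⟶ A} {m' : M ⟶ A'} {m₁ : M ⟶ A₁}
    (h : Art.IsFibreProd p' p'' f' (p ≫ q)) (hM : Art.IsFibreProd m' m₁ f' q) {r : B ⟶ M}
    (hr : r ≫ m' = p') (hr₁ : r ≫ m₁ = p'' ≫ p) : Art.IsFibreProd r p'' m₁ p where
  w := hr₁
  inj a b e e' := h.inj a b (by rw [← hr, comp_apply', comp_apply', e]) e'
  surj m a'' e := by
    obtain ⟨b, hb', hb''⟩ := h.surj (m' m) a'' (by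
      rw [comp_apply', ← e]
      exact hM.w_apply m)
    refine ⟨b, hM.inj _ _ ?_ ?_, hb''⟩
    · rw [← comp_apply', hr, hb']
    · rw [← comp_apply', hr₁, comp_apply', hb'', e]

/-- The fibre product exists as soon as compatible pairs cover the residue field. -/
theorem exists_fibreProd_of_residue [IsNoetherianRing Λ] [Module.Finite Λ k] (f' : A' ⟶ A)
    (f'' : A'' ⟶ A) (h : ∀ c : k, ∃ (a' : A') (a'' : A''), f' a' = f'' a'' ∧ A'.res a' = c) :
    ∃ (B : Art Λ k) (p' : B ⟶ A') (p'' : B ⟶ A''), Art.IsFibreProd p' p'' f' f'' := by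
  let S := AlgHom.pullback f'.toAlgHom f''.toAlgHom
  have := (finiteLength A').1
  have := (finiteLength A').2
  have := (finiteLength A'').1
  have := (finiteLength A'').2
  have : IsArtinian Λ S := inferInstanceAs (IsArtinian Λ S.toSubmodule)
  have : IsArtinianRing S := isArtinian_of_tower Λ this
  have hres : ∀ z : S, A'.res z.1.1 = A''.res z.1.2 := fun z => by
    rw [← Art.res_app f', ← Art.res_app f'']
    exact congrArg A.res z.2
  have hloc : IsLocalRing S := by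
    have : IsLocalHom f''.toAlgHom := Art.isLocalHom f''
    exact AlgHom.isLocalRing_pullback _ _
  let res : S →ₐ[Λ] k := A'.res.comp (AlgHom.pullbackFst f'.toAlgHom f''.toAlgHom)
  have hsurj : Function.Surjective res := fun c => by
    obtain ⟨a', a'', e, hc⟩ := h c
    exact ⟨⟨(a', a''), e⟩, hc⟩
  refine ⟨Art.of S res hsurj, ⟨AlgHom.pullbackFst f'.toAlgHom f''.toAlgHom, rfl⟩,
    ⟨AlgHom.pullbackSnd f'.toAlgHom f''.toAlgHom, AlgHom.ext fun z => (hres z).symm⟩, ?_, ?_, ?_⟩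
  · exact hom_ext_apply fun z : S => z.2
  · exact fun a b e e' => Subtype.ext (Prod.ext e e')
  · exact fun a' a'' e => ⟨(⟨(a', a''), e⟩ : S), rfl, rfl⟩

theorem exists_fibreProd [IsNoetherianRing Λ] [Module.Finite Λ k] (f' : A' ⟶ A) (f'' : A'' ⟶ A)
    (hf : Function.Surjective f'') :
    ∃ (B : Art Λ k) (p' : B ⟶ A') (p'' : B ⟶ A''), Art.IsFibreProd p' p'' f' f'' :=
  exists_fibreProd_of_residue f' f'' fun c => by
    obtain ⟨a', ha⟩ := A'.res_surjective c
    obtain ⟨a'', ha''⟩ := hf (f' a')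
    exact ⟨a', a'', ha''.symm, ha⟩

end FibreProd

section Cmp

variable {F : Art Λ k ⥤ Type v}
variable {B A A' A'' : Art Λ k} {p' : B ⟶ A'} {p'' : B ⟶ A''} {f' : A' ⟶ A} {f'' : A'' ⟶ A}

theorem cmp_eq_iff (h : Art.IsFibreProd p' p'' f' f'') {z z' : F.obj B} :
    cmp F h z = cmp F h z' ↔ F.map p' z = F.map p' z' ∧ F.map p'' z = F.map p'' z' :=
  ⟨fun e => ⟨congrArg (fun x => x.1.1) e, congrArg (fun x => x.1.2) e⟩, fun e => FibProd.ext e.1 e.2⟩

theorem cmp_surjective_iff (h : Art.IsFibreProd p' p'' f' f'') :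
    Function.Surjective (cmp F h) ↔ ∀ x' x'', F.map f' x' = F.map f'' x'' →
      ∃ z : F.obj B, F.map p' z = x' ∧ F.map p'' z = x'' := by
  constructor
  · intro hs x' x'' e
    obtain ⟨z, hz⟩ := hs ⟨(x', x''), e⟩
    exact ⟨z, congrArg (fun x => x.1.1) hz, congrArg (fun x => x.1.2) hz⟩
  · rintro hs ⟨⟨x', x''⟩, e⟩
    obtain ⟨z, h', h''⟩ := hs x' x'' e
    exact ⟨z, FibProd.ext h' h''⟩

theorem cmp_injective_iff (h : Art.IsFibreProd p' p'' f' f'') :
    Function.Injective (cmp F h) ↔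
      ∀ z z' : F.obj B, F.map p' z = F.map p' z' → F.map p'' z = F.map p'' z' → z = z' :=
  ⟨fun hi _ _ e e' => hi ((cmp_eq_iff h).2 ⟨e, e'⟩),
    fun hi _ _ e => hi _ _ ((cmp_eq_iff h).1 e).1 ((cmp_eq_iff h).1 e).2⟩

theorem cmp_bijective_of_iso (h : Art.IsFibreProd p' p'' f' f'') (hf : Function.Bijective f'') :
    Function.Bijective (cmp F h) := by
  have := isIso_of_bijective f'' hf
  have := isIso_of_bijective p' (IsFibreProd.bijective_fst h hf)
  refine ⟨(cmp_injective_iff h).2 fun z z' e _ => (map_bijective F p').1 e,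
    (cmp_surjective_iff h).2 fun x' x'' e => ⟨F.map (inv p') x', map_map_inv F p' x', ?_⟩⟩
  apply (map_bijective F f'').1
  rw [map_map, map_map, ← h.w, IsIso.inv_hom_id_assoc, e]

variable [IsNoetherianRing Λ] [Module.Finite Λ k]

theorem cmp_surjective_of_small
    (H : ∀ ⦃B A A' A'' : Art Λ k⦄ (p' : B ⟶ A') (p'' : B ⟶ A'') (f' : A' ⟶ A) (f'' : A'' ⟶ A)
      (h : Art.IsFibreProd p' p'' f' f''), Art.IsSmallExt f'' → Function.Surjective (cmp F h))
    (h : Art.IsFibreProd p' p'' f' f'') (hf : Function.Surjective f'') :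
    Function.Surjective (cmp F h) := by
  refine surj_induction (fun A A'' (f'' : A'' ⟶ A) => ∀ ⦃B A' : Art Λ k⦄ {p' : B ⟶ A'} {p'' : B ⟶ A''}
    {f' : A' ⟶ A} (h : Art.IsFibreProd p' p'' f' f''), Function.Surjective (cmp F h)) ?_ ?_ ?_ f'' hf h
  · intro A A'' e he B A' p' p'' f' h
    exact (cmp_bijective_of_iso h (bijective_of_isIso e)).2
  · intro A A'' e he B A' p' p'' f' h
    exact H _ _ _ _ h he
  · intro A A₁ A'' p q _ hq hp1 hq1 B A' p' p'' f' h
    obtain ⟨M, m', m₁, hM⟩ := exists_fibreProd f' q hq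
    obtain ⟨r, hr, hr₁⟩ := IsFibreProd.exists_lift hM p' (p'' ≫ p) (by rw [h.w, Category.assoc])
    refine (cmp_surjective_iff h).2 fun x' x'' e => ?_
    obtain ⟨m, hm', hm₁⟩ := (cmp_surjective_iff hM).1 (hq1 hM) x' (F.map p x'')
      (by rw [map_map, e])
    obtain ⟨b, hb, hb''⟩ :=
      (cmp_surjective_iff (IsFibreProd.split h hM hr hr₁)).1 (hp1 _) m x'' hm₁
    exact ⟨b, by rw [← hr, ← map_map, hb, hm'], hb''⟩

theorem cmp_bijective_of_small
    (H : ∀ ⦃B A A' A'' : Art Λ k⦄ (p' : B ⟶ A') (p'' : B ⟶ A'') (f' : A' ⟶ A) (f'' : A'' ⟶ A)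
      (h : Art.IsFibreProd p' p'' f' f''), Art.IsSmallExt f'' → Function.Bijective (cmp F h))
    (h : Art.IsFibreProd p' p'' f' f'') (hf : Function.Surjective f'') :
    Function.Bijective (cmp F h) := by
  refine ⟨?_, cmp_surjective_of_small (fun _ _ _ _ _ _ _ _ h hh => (H _ _ _ _ h hh).2) h hf⟩
  refine surj_induction (fun A A'' (f'' : A'' ⟶ A) => ∀ ⦃B A' : Art Λ k⦄ {p' : B ⟶ A'} {p'' : B ⟶ A''}
    {f' : A' ⟶ A} (h : Art.IsFibreProd p' p'' f' f''), Function.Injective (cmp F h)) ?_ ?_ ?_ f'' hf h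
  · intro A A'' e he B A' p' p'' f' h
    exact (cmp_bijective_of_iso h (bijective_of_isIso e)).1
  · intro A A'' e he B A' p' p'' f' h
    exact (H _ _ _ _ h he).1
  · intro A A₁ A'' p q _ hq hp1 hq1 B A' p' p'' f' h
    obtain ⟨M, m', m₁, hM⟩ := exists_fibreProd f' q hq
    obtain ⟨r, hr, hr₁⟩ := IsFibreProd.exists_lift hM p' (p'' ≫ p) (by rw [h.w, Category.assoc])
    refine (cmp_injective_iff h).2 fun z z' e e' => ?_
    refine (cmp_injective_iff (IsFibreProd.split h hM hr hr₁)).1 (hp1 _) z z' ?_ e'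
    refine (cmp_injective_iff hM).1 (hq1 hM) _ _ ?_ ?_
    · rw [map_map, map_map, hr, e]
    · rw [map_map, map_map, hr₁, ← map_map, ← map_map, e']

end Cmp

section Smooth

variable {F G : Art Λ k ⥤ Type v} {η : F ⟶ G} {B A : Art Λ k} {μ : B ⟶ A}

theorem relCmp_surjective_iff : Function.Surjective (relCmp η μ) ↔
    ∀ (x : F.obj A) (y : G.obj B), η.app A x = G.map μ y →
      ∃ z : F.obj B, F.map μ z = x ∧ η.app B z = y := by
  constructor
  · intro hs x y e
    obtain ⟨z, hz⟩ := hs ⟨(x, y), e⟩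
    exact ⟨z, congrArg (fun t => t.1.1) hz, congrArg (fun t => t.1.2) hz⟩
  · rintro hs ⟨⟨x, y⟩, e⟩
    obtain ⟨z, h₁, h₂⟩ := hs x y e
    exact ⟨z, Subtype.ext (Prod.ext h₁ h₂)⟩

theorem isSmooth_of_small (h : ∀ ⦃B A : Art Λ k⦄ (μ : B ⟶ A), Art.IsSmallExt μ →
    Function.Surjective (relCmp η μ)) : IsSmooth η := by
  intro B A μ hμ
  refine surj_induction (fun A B (μ : B ⟶ A) => Function.Surjective (relCmp η μ)) ?_ (fun A B => @h B A)
    ?_ μ hμ
  · intro A B e he
    exact relCmp_surjective_iff.2 fun x y e' => ⟨F.map (inv e) x, map_map_inv F e x, by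
      rw [nat_app, e', map_inv_map]⟩
  · intro A B C p q _ _ hp hq
    refine relCmp_surjective_iff.2 fun x y e => ?_
    obtain ⟨z, hz, hz'⟩ := relCmp_surjective_iff.1 hq x (G.map p y) (by rw [map_map, e])
    obtain ⟨w, hw, hw'⟩ := relCmp_surjective_iff.1 hp z y hz'
    exact ⟨w, by rw [← map_map, hw, hz], hw'⟩

end Smooth

end Groth.Agent.ArtFunLib
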