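import Groth.Agent.ArtFunLib.PowerSeriesVersal
import Mathlib.LinearAlgebra.Contraction

/-!
Obstruction theory of the functor of a presented coefficient ring.
-/

universe u v

open IsLocalRing CategoryTheory ArtFun
open scoped TensorProduct

namespace Groth.Agent.ArtFunLib

variable {k : Type u} [Field k]

theorem smul_eq_res_smul {C' C : Art k k} {p : C' ⟶ C} (hp : Art.IsSemismallExt p) (a : C') {x : C'}
    (hx : p x = 0) : a * x = C'.res a • x := by
  have h : a - algebraMap k C' (C'.res a) ∈ maximalIdeal C' := by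
    rw [mem_max_iff_of_surjective (C'.res : C' →+* k) C'.res_surjective]
    simp
  have := mul_eq_zero_of_semismall hp h hx
  rw [sub_mul, sub_eq_zero] at this
  rw [this, Algebra.smul_def]

/-- power series rings over a field have smooth functors -/
theorem exists_lift_ps (kC : CRing k k) (hkC : Function.Bijective kC.res) (d : ℕ) {C' C : Art k k}
    (p : C' ⟶ C) (hp : Function.Surjective p) (φ : HomSet (psRing kC d).carrier (psRing kC d).res C) :
    ∃ ψ : HomSet (psRing kC d).carrier (psRing kC d).res C', HomSet.map p ψ = φ := by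
  let e : kC.carrier ≃ₐ[k] k := AlgEquiv.ofBijective kC.res hkC
  choose b hb using fun i => hp (φ.1 (MvPowerSeries.X (R := kC.carrier) i))
  let c : kC.carrier →ₐ[k] C' := (Algebra.ofId k C').comp e.toAlgHom
  have hc : C'.res.comp c = kC.res := AlgHom.ext fun a => by
    show C'.res (algebraMap k C' (kC.res a)) = kC.res a
    rw [AlgHom.commutes]; rfl
  have hb0 : ∀ i, C'.res (b i) = 0 := fun i => by
    have h1 : C.res (φ.1 (MvPowerSeries.X (R := kC.carrier) i)) =
        (psRing kC d).res (MvPowerSeries.X (R := kC.carrier) i) := AlgHom.congr_fun φ.2 _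
    rw [← hb] at h1
    exact (Art.res_app p (b i)).symm.trans (h1.trans (by
      rw [psRing_res, MvPowerSeries.constantCoeff_X, map_zero]))
  obtain ⟨g, hg, hgC, hgX⟩ := exists_ps_eval (R := kC) (T := artCRing C') c hc b hb0
  refine ⟨⟨g, hg⟩, Subtype.ext ?_⟩
  refine ps_hom_ext (T := artCRing C) (g := p.toAlgHom.comp g) (g' := φ.1)
    ((AlgHom.comp_assoc _ _ _).symm.trans ((congrArg (fun q => AlgHom.comp q g) p.res_comp).trans hg))
    φ.2 (fun a => ?_) (fun i => (congrArg p.toAlgHom (hgX i)).trans (hb i))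
  obtain ⟨l, rfl⟩ : ∃ l : k, algebraMap k kC.carrier l = a :=
    ⟨kC.res a, hkC.1 (kC.res.commutes _)⟩
  have h2 : (MvPowerSeries.C (σ := Fin d) (algebraMap k kC.carrier l) : MvPowerSeries (Fin d) kC.carrier) =
      algebraMap k (psRing kC d).carrier l := (psC kC d).commutes l
  rw [h2]
  exact ((p.toAlgHom.comp g).commutes l).trans (φ.1.commutes l).symm

theorem hasObsTheory_linearEquiv {F : Art k k ⥤ Type v} {V W : Type u} [AddCommGroup V] [Module k V]
    [AddCommGroup W] [Module k W] (e : V ≃ₗ[k] W) (T : ObsTheory F V) : HasObsTheory F W := by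
  refine ⟨{ obs := fun p hp u => LinearMap.rTensor _ e.toLinearMap (T.obs p hp u),
            obs_eq_zero_iff := fun p hp u => ?_, obs_quot := fun p hp K hK hKJ hq u => ?_ }⟩
  · rw [← T.obs_eq_zero_iff p hp u]
    exact (LinearEquiv.rTensor _ e).map_eq_zero_iff
  · rw [T.obs_quot p hp K hK hKJ hq u]
    exact (LinearMap.congr_fun ((LinearMap.rTensor_comp_lTensor (f := _) (g := _)).trans
      (LinearMap.lTensor_comp_rTensor (f := _) (g := _)).symm) _)

/-- an obstruction theory for `h_R`, `R` presented as a quotient of a ring with the lifting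
property by an ideal contained in the square of the maximal ideal -/
theorem hasObsTheory_hR_of_presentation (P : CRing k k)
    (hP : ∀ ⦃C' C : Art k k⦄ (p : C' ⟶ C), Function.Surjective p → ∀ φ : HomSet P.carrier P.res C,
      ∃ ψ : HomSet P.carrier P.res C', HomSet.map p ψ = φ)
    {R : Type u} [CommRing R] [Algebra k R] (resR : R →ₐ[k] k) (π : P.carrier →ₐ[k] R)
    (hπ : Function.Surjective π) (hπres : resR.comp π = P.res) (J : Ideal P.carrier)
    (hJ : RingHom.ker π = J) (hJ2 : J ≤ maximalIdeal P.carrier ^ 2) :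
    Module.Finite k (↥J ⧸ (maximalIdeal P.carrier • (⊤ : Submodule P.carrier ↥J))) ∧
    HasObsTheory (hR R resR)
      (Module.Dual k (↥J ⧸ (maximalIdeal P.carrier • (⊤ : Submodule P.carrier ↥J)))) := by
  classical
  set N : Submodule P.carrier ↥J := maximalIdeal P.carrier • (⊤ : Submodule P.carrier ↥J) with hN
  have hfin : Module.Finite k (↥J ⧸ N) := by
    obtain ⟨t, ht⟩ := Module.Finite.fg_top (R := P.carrier) (M := ↥J ⧸ N)
    refine Module.Finite.of_fg_top ⟨t, eq_top_iff.2 fun z hz' => ?_⟩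
    have hz : z ∈ Submodule.span P.carrier (t : Set (↥J ⧸ N)) := by rw [ht]; trivial
    clear hz'
    induction hz using Submodule.span_induction with
    | mem x hx => exact Submodule.subset_span hx
    | zero => exact zero_mem _
    | add x y _ _ hx hy => exact add_mem hx hy
    | smul a x _ hx =>
      have h1 : a • x = P.res a • x := by
        obtain ⟨x, rfl⟩ := Submodule.Quotient.mk_surjective N x
        rw [← sub_eq_zero, ← Submodule.Quotient.mk_smul, ← Submodule.Quotient.mk_smul,
          ← Submodule.Quotient.mk_sub, Submodule.Quotient.mk_eq_zero,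
          ← algebraMap_smul P.carrier (P.res a) x, ← sub_smul]
        refine Submodule.smul_mem_smul ?_ Submodule.mem_top
        rw [CRing.mem_maximalIdeal_iff, map_sub, AlgHom.commutes]
        exact sub_self _
      rw [h1]
      exact Submodule.smul_mem _ _ hx
  refine ⟨hfin, ?_⟩
  have agree : ∀ {C' C : Art k k} (p : C' ⟶ C), Art.IsSemismallExt p →
      ∀ ψ ψ' : HomSet P.carrier P.res C', HomSet.map p ψ = HomSet.map p ψ' →
      ∀ j ∈ maximalIdeal P.carrier ^ 2, ψ.1 j = ψ'.1 j := by
    intro C' C p hp ψ ψ' h j hj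
    have hd : ∀ a, p (ψ.1 a - ψ'.1 a) = 0 := fun a => by
      show p.toAlgHom (ψ.1 a - ψ'.1 a) = 0
      rw [map_sub, sub_eq_zero]
      exact congrArg (fun χ : HomSet P.carrier P.res C => χ.1 a) h
    rw [pow_two] at hj
    refine Submodule.mul_induction_on hj (fun a ha b hb => ?_) fun x y hx hy => by
      rw [map_add, map_add, hx, hy]
    have hm : ∀ χ : HomSet P.carrier P.res C', ∀ c ∈ maximalIdeal P.carrier,
        χ.1 c ∈ maximalIdeal C' := fun χ c hc => by
      rw [mem_max_iff_of_surjective (C'.res : C' →+* k) C'.res_surjective]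
      exact (AlgHom.congr_fun χ.2 c).trans ((CRing.mem_maximalIdeal_iff P c).1 hc)
    rw [← sub_eq_zero, map_mul, map_mul, show ψ.1 a * ψ.1 b - ψ'.1 a * ψ'.1 b =
      ψ.1 a * (ψ.1 b - ψ'.1 b) + ψ'.1 b * (ψ.1 a - ψ'.1 a) by ring,
      mul_eq_zero_of_semismall hp (hm ψ a ha) (hd b),
      mul_eq_zero_of_semismall hp (hm ψ' b hb) (hd a), add_zero]
  have main : ∀ {C' C : Art k k} (p : C' ⟶ C), Art.IsSemismallExt p → ∀ u : HomSet R resR C,
      ∃ f : (↥J ⧸ N) →ₗ[k] ↥(RingHom.ker p.toAlgHom),
        ∃ ψ : HomSet P.carrier P.res C', (∀ a, p (ψ.1 a) = u.1 (π a)) ∧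
          ∀ j : ↥J, (f (Submodule.Quotient.mk j) : C') = ψ.1 j := by
    intro C' C p hp u
    obtain ⟨ψ, hψ⟩ := hP p hp.1 ⟨u.1.comp π, by rw [← AlgHom.comp_assoc, u.2, hπres]⟩
    have hψ' : ∀ a, p (ψ.1 a) = u.1 (π a) :=
      fun a => congrArg (fun χ : HomSet P.carrier P.res C => χ.1 a) hψ
    let f0 : ↥J →ₗ[k] ↥(RingHom.ker p.toAlgHom) :=
      { toFun := fun j => ⟨ψ.1 j, RingHom.mem_ker.2 ((hψ' j).trans (by
          rw [RingHom.mem_ker.1 (hJ.symm ▸ j.2 : (j : P.carrier) ∈ RingHom.ker π), map_zero]))⟩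
        map_add' := fun x y => Subtype.ext (map_add ψ.1 _ _)
        map_smul' := fun c x => Subtype.ext (map_smul ψ.1 c _) }
    have h0 : N.restrictScalars k ≤ LinearMap.ker f0 := fun x hx => by
      rw [Submodule.restrictScalars_mem, hN] at hx
      refine Submodule.smul_induction_on hx (fun a ha j _ => ?_) fun x y hx hy => add_mem hx hy
      refine LinearMap.mem_ker.2 (Subtype.ext ?_)
      show ψ.1 (a * (j : P.carrier)) = 0
      rw [map_mul]
      refine mul_eq_zero_of_semismall hp ?_ ((hψ' j).trans (by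
          rw [RingHom.mem_ker.1 (hJ.symm ▸ j.2 : (j : P.carrier) ∈ RingHom.ker π), map_zero]))
      rw [mem_max_iff_of_surjective (C'.res : C' →+* k) C'.res_surjective]
      exact (AlgHom.congr_fun ψ.2 a).trans ((CRing.mem_maximalIdeal_iff P a).1 ha)
    refine ⟨((N.restrictScalars k).liftQ f0 h0).comp
      (Submodule.Quotient.restrictScalarsEquiv k N).symm.toLinearMap, ψ, hψ', fun j => rfl⟩
  choose f ψ hψ hf using @main
  let E : ∀ I : Type u, [AddCommGroup I] → [Module k I] →
      Module.Dual k (↥J ⧸ N) ⊗[k] I ≃ₗ[k] ((↥J ⧸ N) →ₗ[k] I) := fun I _ _ => dualTensorHomEquiv k _ _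
  refine ⟨{ obs := fun p hp u => (E _).symm (f p hp u), obs_eq_zero_iff := ?_, obs_quot := ?_ }⟩
  · intro C' C p hp u
    rw [LinearEquiv.map_eq_zero_iff]
    constructor
    · intro h0
      have hvan : ∀ a ∈ J, (ψ p hp u).1 a = 0 := fun a ha => by
        rw [← hf p hp u ⟨a, ha⟩, h0]; rfl
      have hle : RingHom.ker π ≤ RingHom.ker (ψ p hp u).1 :=
        fun a ha => hvan a (hJ ▸ ha)
      obtain ⟨χ, hχ⟩ : ∃ χ : R →ₐ[k] C', ∀ a, χ (π a) = (ψ p hp u).1 a :=
        ⟨AlgHom.liftOfSurjective π hπ (ψ p hp u).1 hle,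
          fun a => AlgHom.liftOfSurjective_apply π hπ (ψ p hp u).1 hle a⟩
      refine ⟨⟨χ, ?_⟩, Subtype.ext (AlgHom.ext fun r => ?_)⟩
      · refine AlgHom.ext fun r => ?_
        obtain ⟨a, rfl⟩ := hπ r
        exact ((congrArg C'.res (hχ a)).trans (AlgHom.congr_fun (ψ p hp u).2 a)).trans
          (AlgHom.congr_fun hπres a).symm
      · obtain ⟨a, rfl⟩ := hπ r
        exact (congrArg p.toAlgHom (hχ a)).trans (hψ p hp u a)
    · rintro ⟨u', hu'⟩
      refine LinearMap.ext fun z => ?_
      obtain ⟨j, rfl⟩ := Submodule.Quotient.mk_surjective N z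
      refine Subtype.ext ((hf p hp u j).trans ?_)
      rw [agree p hp (ψ p hp u) ⟨u'.1.comp π, by rw [← AlgHom.comp_assoc, u'.2, hπres]⟩
        (Subtype.ext (AlgHom.ext fun a => (hψ p hp u a).trans
          (congrArg (fun χ : HomSet R resR C => χ.1 (π a)) hu').symm)) j (hJ2 j.2)]
      show u'.1 (π j) = 0
      rw [RingHom.mem_ker.1 (hJ.symm ▸ j.2 : (j : P.carrier) ∈ RingHom.ker π), map_zero]
  · intro C' C p hp K hK hKJ hq u
    set g : ↥(RingHom.ker p.toAlgHom) →ₗ[k] _ := (Art.kerToQuot hK p hKJ).restrictScalars k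
    have nat : ∀ x : Module.Dual k (↥J ⧸ N) ⊗[k] ↥(RingHom.ker p.toAlgHom),
        E _ (LinearMap.lTensor _ g x) = g.comp (E _ x) := by
      intro x
      induction x using TensorProduct.induction_on with
      | zero => simp
      | tmul a b =>
        refine LinearMap.ext fun m => ?_
        show dualTensorHom k (↥J ⧸ N) _ (a ⊗ₜ[k] g b) m = g (dualTensorHom k (↥J ⧸ N) _ (a ⊗ₜ[k] b) m)
        rw [dualTensorHom_apply, dualTensorHom_apply, map_smul]
      | add x y hx hy => simp only [map_add, hx, hy, LinearMap.comp_add]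
    rw [LinearEquiv.symm_apply_eq, nat, LinearEquiv.apply_symm_apply]
    refine LinearMap.ext fun z => ?_
    obtain ⟨j, rfl⟩ := Submodule.Quotient.mk_surjective N z
    refine Subtype.ext ((hf _ hq u j).trans ?_)
    show _ = Ideal.Quotient.mk K ((f p hp u (Submodule.Quotient.mk j) : C'))
    rw [hf p hp u j]
    exact agree _ hq (ψ _ hq u) (HomSet.map (Art.quotMk C' K hK) (ψ p hp u))
      (Subtype.ext (AlgHom.ext fun a => (hψ _ hq u a).trans (hψ p hp u a).symm)) j (hJ2 j.2)

/-- a coefficient ring over a field is a quotient of a power series ring by relations of order ≥ 2 -/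
theorem exists_presentation (R : CRing k k) (kC : CRing k k) (hkC : Function.Bijective kC.res) :
    ∃ (d : ℕ) (π : (psRing kC d).carrier →ₐ[k] R.carrier), Function.Surjective π ∧
      R.res.comp π = (psRing kC d).res ∧
      RingHom.ker π ≤ maximalIdeal (psRing kC d).carrier ^ 2 := by
  have := (psRing kC 0).isAdicComplete
  let e : kC.carrier ≃ₐ[k] k := AlgEquiv.ofBijective kC.res hkC
  let c : kC.carrier →ₐ[k] R.carrier := (Algebra.ofId k R.carrier).comp e.toAlgHom
  have hc : R.res.comp c = kC.res := AlgHom.ext fun a => by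
    show R.res (algebraMap k R.carrier (kC.res a)) = kC.res a
    rw [AlgHom.commutes]; rfl
  obtain ⟨n, s, hs, hind⟩ := exists_minimal_gens (maximalIdeal R.carrier ^ 2)
    (Ideal.pow_le_self two_ne_zero)
  have hs0 : ∀ i, R.res (s i) = 0 := fun i => (CRing.mem_maximalIdeal_iff R _).1
    (hs ▸ Ideal.mem_sup_left (Ideal.subset_span ⟨i, rfl⟩))
  obtain ⟨π, hπ, hπC, hπX⟩ := exists_ps_eval (R := kC) (T := R) c hc s hs0
  have := (psRing kC n).isAdicComplete
  have := R.isAdicComplete
  refine ⟨n, π, ?_, hπ, fun z₀ hz => ?_⟩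
  · refine surjective_of_cotangent π (psRing kC n).res_surjective R.res_surjective hπ ?_
    refine le_antisymm (sup_le (map_le_max π (psRing kC n).res_surjective R.res_surjective hπ)
      (Ideal.pow_le_self two_ne_zero)) ?_
    conv_lhs => rw [← hs]
    refine sup_le (Ideal.span_le.2 ?_) le_sup_right
    rintro _ ⟨i, rfl⟩
    exact Ideal.mem_sup_left (hπX i ▸ Ideal.mem_map_of_mem _ (X_mem_max_ps kC n i))
  · obtain ⟨z, rfl⟩ : ∃ z : MvPowerSeries (Fin n) kC.carrier, z = z₀ := ⟨z₀, rfl⟩
    obtain ⟨g, -, hzg⟩ := CAlgH.exists_eq_C_add_sum_X_mul z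
    have ha : MvPowerSeries.constantCoeff z = 0 := hkC.1 ((AlgHom.congr_fun hπ z).symm.trans
      ((congrArg R.res (RingHom.mem_ker.1 hz)).trans (by rw [map_zero, map_zero])))
    rw [ha, map_zero, zero_add] at hzg
    have hg : ∀ i, π (g i) ∈ maximalIdeal R.carrier := hind _ (by
      rw [show (∑ i, π (g i) * s i) = π z from ?_, RingHom.mem_ker.1 hz]
      · exact zero_mem _
      · conv_rhs => rw [hzg]
        erw [map_sum]
        refine Finset.sum_congr rfl fun i _ => ?_
        erw [map_mul, hπX, mul_comm])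
    rw [hzg]
    refine Ideal.sum_mem _ fun i _ => ?_
    rw [pow_two]
    refine Ideal.mul_mem_mul (X_mem_max_ps kC n i) ?_
    exact (CRing.mem_maximalIdeal_iff (psRing kC n) _).2
      ((AlgHom.congr_fun hπ (g i)).symm.trans ((CRing.mem_maximalIdeal_iff R _).1 (hg i)))

end Groth.Agent.ArtFunLib
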