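import Groth.Agent.ArtFunLib.PowerSeries

/-!
Versality of maps of coefficient rings and power series rings.
-/

universe u v

open IsLocalRing CategoryTheory ArtFun

namespace Groth.Agent.ArtFunLib

variable {Λ : Type u} {k : Type u} [CommRing Λ] [Field k] [Algebra Λ k]

theorem isAdicComplete_of_pow_eq_bot {B : Type u} [CommRing B] {I : Ideal B} {N : ℕ}
    (hN : I ^ N = ⊥) : IsAdicComplete I B where
  haus' x hx := by
    have := hx N
    rwa [SModEq.zero, smul_eq_mul, Ideal.mul_top, hN, Submodule.mem_bot] at this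
  prec' f hf := ⟨f N, fun n => by
    rcases le_total n N with h | h
    · exact hf h
    · have := hf h
      rw [SModEq.sub_mem, smul_eq_mul, Ideal.mul_top, hN, Submodule.mem_bot, sub_eq_zero] at this
      rw [SModEq.sub_mem, this, sub_self]
      exact zero_mem _⟩

/-- an Artinian object as a coefficient ring -/
noncomputable def artCRing (A : Art Λ k) : CRing Λ k where
  carrier := A
  res := A.res
  res_surjective := A.res_surjective
  isAdicComplete := by
    obtain ⟨N, hN⟩ := maximalIdeal_nilpotent A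
    exact isAdicComplete_of_pow_eq_bot hN

/-- constants -/
noncomputable def psC (R : CRing Λ k) (n : ℕ) : R.carrier →ₐ[Λ] (psRing R n).carrier where
  toRingHom := (MvPowerSeries.C (σ := Fin n) (R := R.carrier))
  commutes' _ := (MvPowerSeries.algebraMap_apply (σ := Fin n) (R := Λ) (A := R.carrier)).symm

theorem psC_apply (R : CRing Λ k) (n : ℕ) (a : R.carrier) :
    psC R n a = MvPowerSeries.C (σ := Fin n) a := rfl

theorem res_comp_psC (R : CRing Λ k) (n : ℕ) : (psRing R n).res.comp (psC R n) = R.res :=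
  AlgHom.ext fun a => by
    show R.res (MvPowerSeries.constantCoeff (MvPowerSeries.C (σ := Fin n) a)) = R.res a
    rw [MvPowerSeries.constantCoeff_C]

/-- a family of elements minimally generating the relative cotangent space -/
theorem exists_minimal_gens {S : Type u} [CommRing S] [IsLocalRing S] [IsNoetherianRing S]
    (J : Ideal S) (hJ : J ≤ maximalIdeal S) :
    ∃ (n : ℕ) (s : Fin n → S), Ideal.span (Set.range s) ⊔ J = maximalIdeal S ∧
      ∀ c : Fin n → S, (∑ i, c i * s i) ∈ J → ∀ i, c i ∈ maximalIdeal S := by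
  classical
  have hex : ∃ n, ∃ s : Fin n → S, Ideal.span (Set.range s) ⊔ J = maximalIdeal S := by
    obtain ⟨g, hg⟩ := IsNoetherian.noetherian (maximalIdeal S)
    refine ⟨g.card, fun i => (g.equivFin.symm i : S), ?_⟩
    have : Set.range (fun i => (g.equivFin.symm i : S)) = (g : Set S) := by
      ext x
      exact ⟨fun ⟨i, hi⟩ => hi ▸ (g.equivFin.symm i).2, fun hx => ⟨g.equivFin ⟨x, hx⟩, by simp⟩⟩
    rw [this, show Ideal.span (g : Set S) = maximalIdeal S from hg, sup_eq_left.2 hJ]
  obtain ⟨s, hs⟩ := Nat.find_spec hex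
  refine ⟨Nat.find hex, s, hs, fun c hc j => ?_⟩
  by_contra hj
  obtain ⟨u, hu⟩ := (IsLocalRing.notMem_maximalIdeal.1 hj)
  obtain ⟨m, hm⟩ := Nat.exists_eq_succ_of_ne_zero
    (fun h0 : Nat.find hex = 0 => (h0 ▸ j : Fin 0).elim0)
  revert s c j u
  rw [hm]
  intro s hs c hc j hj u hu
  refine Nat.find_min hex (m := m) (hm ▸ Nat.lt_succ_self m) ⟨fun i => s (j.succAbove i), ?_⟩
  refine le_antisymm (sup_le (Ideal.span_le.2 ?_) hJ) ?_
  · rintro _ ⟨i, rfl⟩
    rw [← hs]
    exact Ideal.mem_sup_left (Ideal.subset_span ⟨_, rfl⟩)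
  · conv_lhs => rw [← hs]
    refine sup_le (Ideal.span_le.2 ?_) le_sup_right
    rintro _ ⟨i, rfl⟩
    obtain rfl | ⟨i, rfl⟩ := j.eq_self_or_eq_succAbove i
    · have e : c i * s i = (∑ l, c l * s l) - ∑ l, c (i.succAbove l) * s (i.succAbove l) := by
        rw [Fin.sum_univ_succAbove _ i, add_sub_cancel_right]
      have : c i * s i ∈ Ideal.span (Set.range fun l => s (i.succAbove l)) ⊔ J := by
        rw [e]
        exact sub_mem (Ideal.mem_sup_right hc) (Ideal.mem_sup_left
          (Ideal.sum_mem _ fun l _ => Ideal.mul_mem_left _ _ (Ideal.subset_span ⟨l, rfl⟩)))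
      have h2 := Ideal.mul_mem_left _ (↑u⁻¹ : S) this
      rwa [← mul_assoc, ← hu, Units.inv_mul, one_mul] at h2
    · exact Ideal.mem_sup_left (Ideal.subset_span ⟨i, rfl⟩)

variable {R S : CRing Λ k} (ι : R.carrier →ₐ[Λ] S.carrier) (hι : S.res.comp ι = R.res)

/-- power series rings are versal over the coefficients -/
theorem isVersal_along_of_iso {n : ℕ} (e : S.carrier →ₐ[Λ] (psRing R n).carrier)
    (he : Function.Bijective e) (heC : e.comp ι = psC R n) :
    IsVersal ((Family.self R.carrier R.res).along ι hι) := by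
  intro B A μ hμ φ y hy
  have hy' : μ.toAlgHom.comp y.1 = φ.1.comp ι := congrArg (fun ψ : HomSet R.carrier R.res A => ψ.1) hy
  let e' : S.carrier ≃ₐ[Λ] (psRing R n).carrier := AlgEquiv.ofBijective e he
  have hsX : ∀ i, S.res (e'.symm (MvPowerSeries.X (R := R.carrier) i)) = 0 := fun i => by
    rw [← CRing.mem_maximalIdeal_iff, mem_maximalIdeal, mem_nonunits_iff]
    intro hu
    have := hu.map e'
    exact (mem_maximalIdeal _).1 (X_mem_max_ps R n i)
      ((congrArg IsUnit (e'.apply_symm_apply (MvPowerSeries.X (R := R.carrier) i))).mp this)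
  have hse : S.res.comp e'.symm.toAlgHom = (psRing R n).res := AlgHom.ext fun f₀ => by
    obtain ⟨f, rfl⟩ : ∃ f : MvPowerSeries (Fin n) R.carrier, f = f₀ := ⟨f₀, rfl⟩
    obtain ⟨g, -, hfg⟩ := CAlgH.exists_eq_C_add_sum_X_mul f
    show S.res (e'.symm _) = R.res (MvPowerSeries.constantCoeff f)
    have h1 : e'.symm (psC R n (MvPowerSeries.constantCoeff f)) = ι (MvPowerSeries.constantCoeff f) :=
      e'.injective ((e'.apply_symm_apply _).trans (AlgHom.congr_fun heC _).symm)
    have h2 : S.res (ι (MvPowerSeries.constantCoeff f)) = R.res (MvPowerSeries.constantCoeff f) :=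
      AlgHom.congr_fun hι _
    conv_lhs => rw [hfg]
    erw [map_add, map_add, map_sum, map_sum]
    rw [Finset.sum_eq_zero fun i _ => ?_, add_zero]
    · exact (congrArg S.res h1).trans h2
    · erw [map_mul, map_mul, hsX, zero_mul]
  choose b hb using fun i => hμ (φ.1 (e'.symm (MvPowerSeries.X (R := R.carrier) i)))
  have hb0 : ∀ i, B.res (b i) = 0 := fun i => by
    rw [← hsX i]
    exact ((Art.res_app μ (b i)).symm.trans (congrArg A.res (hb i))).trans (AlgHom.congr_fun φ.2 _)
  obtain ⟨g, hg, hgC, hgX⟩ := exists_ps_eval (R := R) (T := artCRing B) y.1 y.2 b hb0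
  have hge : B.res.comp (g.comp e) = S.res := AlgHom.ext fun s => by
    have h1 : B.res (g (e s)) = (psRing R n).res (e s) := AlgHom.congr_fun hg (e s)
    have h2 : S.res (e'.symm (e' s)) = (psRing R n).res (e s) := AlgHom.congr_fun hse (e s)
    rw [AlgEquiv.symm_apply_apply] at h2
    exact h1.trans h2.symm
  refine ⟨⟨g.comp e, hge⟩, Subtype.ext ?_, Subtype.ext (AlgHom.ext fun r => ?_)⟩
  · have key : μ.toAlgHom.comp g = φ.1.comp e'.symm.toAlgHom :=
      ps_hom_ext (T := artCRing A) (g := μ.toAlgHom.comp g) (g' := φ.1.comp e'.symm.toAlgHom)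
        ((AlgHom.comp_assoc _ _ _).symm.trans ((congrArg (fun q => AlgHom.comp q g) μ.res_comp).trans hg))
        ((AlgHom.comp_assoc _ _ _).symm.trans
          ((congrArg (fun q => AlgHom.comp q e'.symm.toAlgHom) φ.2).trans hse))
        (fun a => by
          show μ.toAlgHom (g (MvPowerSeries.C (σ := Fin n) a)) = φ.1 (e'.symm (psC R n a))
          rw [show e'.symm (psC R n a) = ι a from
            e'.injective ((e'.apply_symm_apply _).trans (AlgHom.congr_fun heC a).symm)]
          exact (congrArg μ.toAlgHom (hgC a)).trans (AlgHom.congr_fun hy' a))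
        (fun i => (congrArg μ.toAlgHom (hgX i)).trans (hb i))
    exact AlgHom.ext fun s => (AlgHom.congr_fun key (e s)).trans
      (congrArg φ.1 (e'.symm_apply_apply s))
  · show g (e (ι r)) = y.1 r
    exact (congrArg g (AlgHom.congr_fun heC r)).trans (hgC r)

/-- versal maps of coefficient rings are power series rings -/
theorem exists_iso_of_isVersal (hv : IsVersal ((Family.self R.carrier R.res).along ι hι)) :
    ∃ (n : ℕ) (Φ : (psRing R n).carrier →ₐ[Λ] S.carrier),
      Function.Bijective Φ ∧ ∀ a, Φ (psC R n a) = ι a := by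
  classical
  have hιm : Ideal.map ι (maximalIdeal R.carrier) ≤ maximalIdeal S.carrier :=
    map_le_max ι R.res_surjective S.res_surjective hι
  obtain ⟨n, s, hs, hind⟩ := exists_minimal_gens
    (Ideal.map ι (maximalIdeal R.carrier) ⊔ maximalIdeal S.carrier ^ 2)
    (sup_le hιm (Ideal.pow_le_self two_ne_zero))
  have hs0 : ∀ i, S.res (s i) = 0 := fun i => (CRing.mem_maximalIdeal_iff S _).1
    (hs ▸ Ideal.mem_sup_left (Ideal.subset_span ⟨i, rfl⟩))
  obtain ⟨Φ, hΦ, hΦC, hΦX⟩ := exists_ps_eval (R := R) (T := S) ι hι s hs0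
  let P := psRing R n
  have := P.isAdicComplete
  have := S.isAdicComplete
  have hΦsurj : Function.Surjective Φ := by
    refine surjective_of_cotangent Φ P.res_surjective S.res_surjective hΦ ?_
    refine le_antisymm (sup_le (map_le_max Φ P.res_surjective S.res_surjective hΦ)
      (Ideal.pow_le_self two_ne_zero)) ?_
    conv_lhs => rw [← hs]
    refine sup_le (Ideal.span_le.2 ?_) (sup_le (Ideal.map_le_iff_le_comap.2 fun a ha => ?_) le_sup_right)
    · rintro _ ⟨i, rfl⟩
      exact Ideal.mem_sup_left (hΦX i ▸ Ideal.mem_map_of_mem _ (X_mem_max_ps R n i))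
    · refine Ideal.mem_sup_left (hΦC a ▸ Ideal.mem_map_of_mem _ ((CRing.mem_maximalIdeal_iff P _).2 ?_))
      exact (AlgHom.congr_fun (res_comp_psC R n) a).trans ((CRing.mem_maximalIdeal_iff R a).1 ha)
  let yC : ∀ m, HomSet R.carrier R.res (P.trunc m) := fun m =>
    ⟨(P.truncHom m).1.comp (psC R n), AlgHom.ext fun a => AlgHom.congr_fun (res_comp_psC R n) a⟩
  let μ₁ : P.trunc 1 ⟶ S.trunc 1 := CRing.truncMapOfHom Φ hΦ 1
  have hμ₁ : Function.Surjective μ₁ := fun z => by
    obtain ⟨a, rfl⟩ := truncHom_surjective S 1 z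
    obtain ⟨b, rfl⟩ := hΦsurj a
    exact ⟨(P.truncHom 1).1 b, rfl⟩
  obtain ⟨u₁, hu₁, hu₁C⟩ := hv μ₁ hμ₁ (S.truncHom 1) (yC 1)
    (Subtype.ext (AlgHom.ext fun a => congrArg (S.truncHom 1).1 (hΦC a)))
  have step : ∀ m (w : HomSet S.carrier S.res (P.trunc (m + 1))),
      w.1.comp ι = (yC (m + 1)).1 → ∃ w' : HomSet S.carrier S.res (P.trunc (m + 1 + 1)),
        w'.1.comp ι = (yC (m + 1 + 1)).1 ∧ HomSet.map (P.truncMap (m + 1)) w' = w := by
    intro m w hw
    obtain ⟨w', h1, h2⟩ := hv (P.truncMap (m + 1)) (truncMap_surjective P _) w (yC (m + 1 + 1))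
      (Subtype.ext (AlgHom.ext fun a => (AlgHom.congr_fun hw a).symm))
    exact ⟨w', congrArg Subtype.val h2, h1⟩
  choose next hnext hnext' using step
  let W : ∀ m, {w : HomSet S.carrier S.res (P.trunc (m + 1)) // w.1.comp ι = (yC (m + 1)).1} :=
    fun m => Nat.rec
      (motive := fun m => {w : HomSet S.carrier S.res (P.trunc (m + 1)) // w.1.comp ι = (yC (m + 1)).1})
      ⟨u₁, congrArg Subtype.val hu₁C⟩ (fun m p => ⟨next m p.1 p.2, hnext m p.1 p.2⟩) m
  have hW : ∀ m, HomSet.map (P.truncMap (m + 1)) (W (m + 1)).1 = (W m).1 := fun m =>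
    hnext' m (W m).1 (W m).2
  obtain ⟨σ, hσ, hσn⟩ := exists_hom_of_compat P (fun m => HomSet.map (P.truncMap m) (W m).1)
    (fun m => by rw [hW m])
  have hσC : ∀ a, σ (ι a) = psC R n a := fun a => hausdorff_ext P fun m => by
    exact (AlgHom.congr_fun (hσn m) (ι a)).trans
      (congrArg (P.truncMap m) (AlgHom.congr_fun (W m).2 a))
  have hσ1 : ∀ x, (P.truncHom 1).1 (σ x) = u₁.1 x := fun x =>
    (AlgHom.congr_fun (hσn 1) x).trans (congrArg (fun w : HomSet S.carrier S.res (P.trunc 1) => w.1 x) (hW 0))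
  let θ : P.carrier →ₐ[Λ] P.carrier := σ.comp Φ
  have hθ : P.res.comp θ = P.res := by rw [← AlgHom.comp_assoc, hσ, hΦ]
  have hθC : ∀ a, θ (psC R n a) = psC R n a := fun a => (congrArg σ (hΦC a)).trans (hσC a)
  let M : Ideal P.carrier := Ideal.map θ (maximalIdeal P.carrier) ⊔ maximalIdeal P.carrier ^ 2
  have hMC : ∀ a, R.res a = 0 → psC R n a ∈ M := fun a ha => Ideal.mem_sup_left
    (hθC a ▸ Ideal.mem_map_of_mem _ ((CRing.mem_maximalIdeal_iff P _).2
      ((AlgHom.congr_fun (res_comp_psC R n) a).trans ha)))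
  have hker : ∀ z : P.carrier, Φ z ∈ maximalIdeal S.carrier ^ 2 → z ∈ M := fun z₀ hz => by
    obtain ⟨z, rfl⟩ : ∃ z : MvPowerSeries (Fin n) R.carrier, z = z₀ := ⟨z₀, rfl⟩
    obtain ⟨g, -, hzg⟩ := CAlgH.exists_eq_C_add_sum_X_mul z
    have ha : R.res (MvPowerSeries.constantCoeff z) = 0 :=
      (AlgHom.congr_fun hΦ z).symm.trans ((CRing.mem_maximalIdeal_iff S _).1
        (Ideal.pow_le_self two_ne_zero hz))
    have hΦz : Φ z = ι (MvPowerSeries.constantCoeff z) + ∑ i, Φ (g i) * s i := by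
      conv_lhs => rw [hzg]
      erw [map_add, map_sum, hΦC]
      congr 1
      refine Finset.sum_congr rfl fun i _ => ?_
      erw [map_mul, hΦX, mul_comm]
    have hg : ∀ i, Φ (g i) ∈ maximalIdeal S.carrier := hind _ (by
      rw [show (∑ i, Φ (g i) * s i) = Φ z - ι (MvPowerSeries.constantCoeff z) from by
        rw [hΦz, add_sub_cancel_left]]
      exact sub_mem (Ideal.mem_sup_right hz) (Ideal.mem_sup_left
        (Ideal.mem_map_of_mem _ ((CRing.mem_maximalIdeal_iff R _).2 ha))))
    have hg' : ∀ i, g i ∈ maximalIdeal (MvPowerSeries (Fin n) R.carrier) := fun i =>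
      (CRing.mem_maximalIdeal_iff P _).2
        ((AlgHom.congr_fun hΦ (g i)).symm.trans ((CRing.mem_maximalIdeal_iff S _).1 (hg i)))
    rw [hzg]
    refine M.add_mem (hMC _ ha) (Ideal.sum_mem M fun i _ => Ideal.mem_sup_right ?_)
    rw [pow_two]
    exact Ideal.mul_mem_mul (X_mem_max_ps R n i) (hg' i)
  have hθsurj : Function.Surjective θ := by
    refine surjective_of_cotangent θ P.res_surjective P.res_surjective hθ ?_
    refine le_antisymm (sup_le (map_le_max θ P.res_surjective P.res_surjective hθ)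
      (Ideal.pow_le_self two_ne_zero)) (max_ps_le R n hMC fun i => ?_)
    have h1 : μ₁ (u₁.1 (s i)) = (S.truncHom 1).1 (s i) :=
      congrArg (fun w : HomSet S.carrier S.res (S.trunc 1) => w.1 (s i)) hu₁
    rw [← hσ1] at h1
    obtain ⟨x, hx⟩ : ∃ x : P.carrier, x = (show P.carrier from MvPowerSeries.X (R := R.carrier) i) :=
      ⟨_, rfl⟩
    have h2 : Φ (σ (s i) - x) ∈ maximalIdeal S.carrier ^ 2 := by
      rw [map_sub, hx]
      erw [hΦX i]
      exact (truncHom_eq_iff S 1 _ _).1 h1
    have h3 : θ (MvPowerSeries.X (R := R.carrier) i) ∈ M :=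
      Ideal.mem_sup_left (Ideal.mem_map_of_mem _ (X_mem_max_ps R n i))
    have h4 : θ (MvPowerSeries.X (R := R.carrier) i) = σ (s i) := congrArg σ (hΦX i)
    rw [h4] at h3
    have := sub_mem h3 (hker _ h2)
    rw [sub_sub_cancel] at this
    exact (congrArg (· ∈ M) hx).mp this
  have hinj : Function.Injective θ := (bijective_of_surjective_endo θ.toRingHom hθsurj).1
  exact ⟨n, Φ, ⟨fun a b h => hinj (congrArg σ h), hΦsurj⟩, hΦC⟩

end Groth.Agent.ArtFunLib
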