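import Groth.Agent.ArtFunLib.Functor
import Mathlib.CategoryTheory.Limits.Types.Pullbacks
import Mathlib.CategoryTheory.Limits.FunctorCategory.Shapes.Pullbacks
import Mathlib.CategoryTheory.Limits.Shapes.Pullback.IsPullback.Basic

/-!
# Tangent spaces of functors of Artin rings
-/

universe u v

open CategoryTheory IsLocalRing ArtFun Limits

namespace Groth.Agent.ArtFunLib

variable {Λ : Type u} {k : Type u} [CommRing Λ] [Field k] [Algebra Λ k]

theorem toBase_comp_eq {A B : Art Λ k} (g : A ⟶ B) : g ≫ Art.toBase B = Art.toBase A :=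
  base_subsingleton _ _

theorem hom_dual_ext {T : Art Λ k} {g g' : T ⟶ Art.dual Λ k}
    (h : ∀ t, TrivSqZeroExt.snd (g t) = TrivSqZeroExt.snd (g' t)) : g = g' :=
  hom_ext_apply fun t => TrivSqZeroExt.ext ((Art.res_app g t).trans (Art.res_app g' t).symm) (h t)

/-- The zero map to the dual numbers. -/
noncomputable def zeroHom (T : Art Λ k) : T ⟶ Art.dual Λ k := Art.toBase T ≫ Art.baseToDual

theorem zeroHom_snd (T : Art Λ k) (t : T) : TrivSqZeroExt.snd (zeroHom T t) = 0 := rfl

theorem comp_zeroHom {T T' : Art Λ k} (g : T ⟶ T') : g ≫ zeroHom T' = zeroHom T := by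
  rw [zeroHom, ← Category.assoc, toBase_comp_eq]; rfl

theorem exists_pair {T : Art Λ k} (g g' : T ⟶ Art.dual Λ k) :
    ∃ r : T ⟶ Art.dual2 Λ k, r ≫ Art.pr₁ = g ∧ r ≫ Art.pr₂ = g' :=
  IsFibreProd.exists_lift Art.isFibreProd_dual2 g g' (base_subsingleton _ _)

/-- The pair of two maps to the dual numbers. -/
noncomputable def pair {T : Art Λ k} (g g' : T ⟶ Art.dual Λ k) : T ⟶ Art.dual2 Λ k :=
  (exists_pair g g').choose

theorem pair_pr₁ {T : Art Λ k} (g g' : T ⟶ Art.dual Λ k) : pair g g' ≫ Art.pr₁ = g :=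
  (exists_pair g g').choose_spec.1

theorem pair_pr₂ {T : Art Λ k} (g g' : T ⟶ Art.dual Λ k) : pair g g' ≫ Art.pr₂ = g' :=
  (exists_pair g g').choose_spec.2

/-- The sum of two maps to the dual numbers. -/
noncomputable def gadd {T : Art Λ k} (g g' : T ⟶ Art.dual Λ k) : T ⟶ Art.dual Λ k :=
  pair g g' ≫ Art.plus

theorem gadd_snd {T : Art Λ k} (g g' : T ⟶ Art.dual Λ k) (t : T) :
    TrivSqZeroExt.snd (gadd g g' t) = TrivSqZeroExt.snd (g t) + TrivSqZeroExt.snd (g' t) := by
  conv_rhs => rw [← pair_pr₁ g g']; arg 2; rw [← pair_pr₂ g g']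
  rfl

theorem scale_snd (c : k) (z : Art.dual Λ k) :
    TrivSqZeroExt.snd ((Art.scale c : Art.dual Λ k ⟶ _) z) = c * TrivSqZeroExt.snd z := rfl

section Tangent

variable {F : Art Λ k ⥤ Type v} (h0 : H0 F) (h2 : Heps F)

include h0 in
theorem base_eq (x y : F.obj (Art.base Λ k)) : x = y := @Subsingleton.elim _ h0.2 _ _

include h0 h2 in
theorem exists_unique_pair (x y : F.obj (Art.dual Λ k)) :
    ∃! z : F.obj (Art.dual2 Λ k), F.map Art.pr₁ z = x ∧ F.map Art.pr₂ z = y := by
  obtain ⟨z, h₁, h₂⟩ := (cmp_surjective_iff _).1 (h2 _ _ Art.isFibreProd_dual2).2 x y (base_eq h0 _ _)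
  exact ⟨z, ⟨h₁, h₂⟩, fun z' hz' => (cmp_injective_iff _).1 (h2 _ _ Art.isFibreProd_dual2).1 z' z
    (hz'.1.trans h₁.symm) (hz'.2.trans h₂.symm)⟩

include h0 h2 in
/-- Addition on the tangent space. -/
noncomputable def add' (x y : F.obj (Art.dual Λ k)) : F.obj (Art.dual Λ k) :=
  F.map Art.plus (exists_unique_pair h0 h2 x y).choose

theorem add'_map {T : Art Λ k} (g g' : T ⟶ Art.dual Λ k) (z : F.obj T) :
    add' h0 h2 (F.map g z) (F.map g' z) = F.map (gadd g g') z := by
  rw [gadd, ← map_map, add']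
  congr 1
  exact ((exists_unique_pair h0 h2 _ _).choose_spec.2 _
    ⟨by rw [map_map, pair_pr₁], by rw [map_map, pair_pr₂]⟩).symm

variable [IsNoetherianRing Λ] [Module.Finite Λ k]

include h0 h2 in
/-- The tangent structure given by conditions H0 and Heps. -/
noncomputable def tangentStr : TangentStr F := by
  classical
  let z0 : F.obj (Art.dual Λ k) := F.map Art.baseToDual h0.1.some
  have hz : ∀ {T : Art Λ k} (z : F.obj T), F.map (zeroHom T) z = z0 := fun z => by
    rw [zeroHom, ← map_map, base_eq h0 (F.map (Art.toBase _) z) h0.1.some]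
  letI iA : Add (F.obj (Art.dual Λ k)) := ⟨add' h0 h2⟩
  letI iZ : Zero (F.obj (Art.dual Λ k)) := ⟨z0⟩
  letI iN : Neg (F.obj (Art.dual Λ k)) := ⟨F.map (Art.scale (-1))⟩
  letI : AddCommGroup (F.obj (Art.dual Λ k)) :=
  { add := add' h0 h2
    zero := z0
    neg := F.map (Art.scale (-1))
    nsmul := nsmulRec
    zsmul := zsmulRec
    add_assoc := fun x y w => by
      obtain ⟨z, ⟨hx, hy⟩, -⟩ := exists_unique_pair h0 h2 x y
      obtain ⟨T, p, p₃, hT⟩ := exists_fibreProd (Art.toBase (Art.dual2 Λ k))
        (Art.toBase (Art.dual Λ k)) (Art.dual Λ k).res_surjective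
      obtain ⟨t, ht, ht'⟩ := (cmp_surjective_iff hT).1 (h2 _ _ hT).2 z w (base_eq h0 _ _)
      subst hx hy ht ht'
      change add' h0 h2 (add' h0 h2 _ _) _ = add' h0 h2 _ (add' h0 h2 _ _)
      simp only [map_map, add'_map]
      refine congrArg (fun g => F.map g t) (hom_dual_ext fun s => ?_); simp only [gadd_snd, add_assoc]
    zero_add := fun x => by
      change add' h0 h2 z0 x = x
      conv_lhs => rw [← hz x]; arg 4; rw [← map_id' F x]
      rw [add'_map, show gadd (zeroHom _) (𝟙 _) = 𝟙 (Art.dual Λ k) from hom_dual_ext fun s => by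
        rw [gadd_snd, zeroHom_snd, zero_add], map_id']
    add_zero := fun x => by
      change add' h0 h2 x z0 = x
      conv_lhs => rw [← hz x]; arg 3; rw [← map_id' F x]
      rw [add'_map, show gadd (𝟙 _) (zeroHom _) = 𝟙 (Art.dual Λ k) from hom_dual_ext fun s => by
        rw [gadd_snd, zeroHom_snd, add_zero], map_id']
    neg_add_cancel := fun x => by
      change add' h0 h2 (F.map (Art.scale (-1)) x) x = z0
      conv_lhs => arg 4; rw [← map_id' F x]
      rw [add'_map, ← hz x]
      refine congrArg (fun g => F.map g x) (hom_dual_ext fun s => ?_)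
      rw [gadd_snd, zeroHom_snd, scale_snd]
      exact (by rw [neg_one_mul]; exact neg_add_cancel _)
    add_comm := fun x y => by
      obtain ⟨z, ⟨hx, hy⟩, -⟩ := exists_unique_pair h0 h2 x y
      subst hx hy
      change add' h0 h2 _ _ = add' h0 h2 _ _
      rw [add'_map, add'_map]
      refine congrArg (fun g => F.map g z) (hom_dual_ext fun s => ?_)
      rw [gadd_snd, gadd_snd, add_comm] }
  letI : Module k (F.obj (Art.dual Λ k)) :=
  { smul := fun c => F.map (Art.scale c)
    one_smul := fun x => by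
      change F.map (Art.scale 1) x = x
      rw [show Art.scale (1 : k) = 𝟙 (Art.dual Λ k) from hom_dual_ext fun s => by
        rw [scale_snd, one_mul]; rfl, map_id']
    mul_smul := fun c d x => by
      change F.map (Art.scale (c * d)) x = F.map (Art.scale c) (F.map (Art.scale d) x)
      rw [map_map]
      refine congrArg (fun g => F.map g x) (hom_dual_ext fun s => ?_)
      rw [comp_apply', scale_snd, scale_snd, scale_snd, mul_assoc]
    smul_zero := fun c => by
      change F.map (Art.scale c) z0 = z0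
      rw [map_map]
      refine congrArg (fun g => F.map g _) (hom_dual_ext fun s => ?_)
      rw [comp_apply', scale_snd]
      exact mul_zero _
    smul_add := fun c x y => by
      obtain ⟨z, ⟨hx, hy⟩, -⟩ := exists_unique_pair h0 h2 x y
      subst hx hy
      change F.map (Art.scale c) (add' h0 h2 _ _) =
        add' h0 h2 (F.map (Art.scale c) _) (F.map (Art.scale c) _)
      simp only [map_map, add'_map]
      refine congrArg (fun g => F.map g z) (hom_dual_ext fun s => ?_)
      simp only [comp_apply', scale_snd, gadd_snd]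
      exact mul_add _ _ _
    add_smul := fun c d x => by
      change F.map (Art.scale (c + d)) x = add' h0 h2 (F.map (Art.scale c) x) (F.map (Art.scale d) x)
      rw [add'_map]
      refine congrArg (fun g => F.map g x) (hom_dual_ext fun s => ?_)
      rw [gadd_snd, scale_snd, scale_snd, scale_snd, add_mul]
    zero_smul := fun x => by
      change F.map (Art.scale 0) x = z0
      rw [← hz x]
      refine congrArg (fun g => F.map g x) (hom_dual_ext fun s => ?_)
      rw [scale_snd, zeroHom_snd, zero_mul] }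
  exact
  { addCommGroup := inferInstance
    module := inferInstance
    smul_eq := fun _ _ => rfl
    add_eq := fun z => by
      change add' h0 h2 _ _ = _
      rw [add'_map]
      refine congrArg (fun g => F.map g z) (hom_dual_ext fun s => ?_)
      rw [gadd_snd]
      rfl }

end Tangent

section SmallExt

/-- For a small extension, the difference of the projections of `B ×_A B` gives a map to the dual numbers. -/
theorem exists_diff {A B P : Art Λ k} {p : B ⟶ A} (hp : Art.IsSmallExt p) {t : B}
    (ht : RingHom.ker p.toAlgHom = Ideal.span {t}) {p₁ p₂ : P ⟶ B} (hP : Art.IsFibreProd p₁ p₂ p p) :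
    ∃ g : P ⟶ Art.dual Λ k,
      (∀ (z : P) (b : B), B.res b = TrivSqZeroExt.snd (g z) → b * t = p₂ z - p₁ z) ∧
        Art.IsFibreProd p₁ g (Art.toBase B) (Art.toBase (Art.dual Λ k)) := by
  have ht0 : p t = 0 := RingHom.mem_ker.1 (ht ▸ Ideal.mem_span_singleton_self t)
  have htne : t ≠ 0 := fun h => hp.2.1 (by rw [ht, h, Ideal.span_singleton_eq_bot])
  have key : ∀ b b' : B, B.res b = B.res b' → b * t = b' * t := fun b b' e => by
    rw [← sub_eq_zero, ← sub_mul]
    exact mul_eq_zero_of_semismall hp.isSemismallExt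
      ((B.mem_maximalIdeal_iff _).2 (by rw [map_sub, e, sub_self])) ht0
  have key' : ∀ b b' : B, b * t = b' * t → B.res b = B.res b' := fun b b' e => by
    by_contra hne
    have hu : IsUnit (b - b') := by
      by_contra hu
      exact hne (sub_eq_zero.1 (by
        rw [← map_sub]; exact (B.mem_maximalIdeal_iff _).1 ((IsLocalRing.mem_maximalIdeal _).2 hu)))
    exact htne ((hu.mul_right_eq_zero).1 (by rw [sub_mul, e, sub_self]))
  have hex : ∀ z : P, ∃ b : B, b * t = p₂ z - p₁ z := fun z => by
    refine Ideal.mem_span_singleton'.1 (ht ▸ RingHom.mem_ker.2 ?_)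
    rw [map_sub, sub_eq_zero]
    exact (hP.w_apply z).symm
  choose β hβ using hex
  have hres : ∀ z, B.res (p₂ z) = P.res z := fun z => Art.res_app p₂ z
  have hres1 : ∀ z, B.res (p₁ z) = P.res z := fun z => Art.res_app p₁ z
  have hadd : ∀ x y, B.res (β (x + y)) = B.res (β x) + B.res (β y) := fun x y => by
    rw [← map_add]
    exact key' _ _ (by rw [hβ, add_mul, hβ, hβ, map_add, map_add]; ring)
  have hmul : ∀ x y, B.res (β (x * y)) = P.res x * B.res (β y) + B.res (β x) * P.res y := fun x y => by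
    rw [← hres1 x, ← hres y, ← map_mul, ← map_mul, ← map_add]
    refine key' _ _ ?_
    rw [hβ, add_mul, mul_assoc, hβ, mul_right_comm, hβ, map_mul, map_mul]
    ring
  have hc : ∀ r : Λ, B.res (β (algebraMap Λ P r)) = 0 := fun r => by
    rw [← map_zero B.res]
    exact key' _ _ (by rw [hβ, zero_mul, AlgHom.commutes, AlgHom.commutes, sub_self])
  let g : P →ₐ[Λ] DualNumber k :=
    { toFun := fun z => (P.res z, B.res (β z))
      map_one' := TrivSqZeroExt.ext (map_one P.res) (by simpa using hc 1)
      map_zero' := TrivSqZeroExt.ext (map_zero P.res) (by simpa using hc 0)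
      map_add' := fun x y => TrivSqZeroExt.ext (map_add P.res x y) (hadd x y)
      map_mul' := fun x y => TrivSqZeroExt.ext (map_mul P.res x y) (by
        change B.res (β (x * y)) = P.res x • B.res (β y) + MulOpposite.op (P.res y) • B.res (β x)
        rw [hmul, op_smul_eq_smul, smul_eq_mul, smul_eq_mul, mul_comm (B.res (β x))])
      commutes' := fun r => TrivSqZeroExt.ext (P.res.commutes r) (by
        rw [TrivSqZeroExt.algebraMap_eq_inl', TrivSqZeroExt.snd_inl]; exact hc r) }
  refine ⟨⟨g, AlgHom.ext fun z => rfl⟩, fun z b e => (key b (β z) e).trans (hβ z),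
    ⟨base_subsingleton _ _, fun z z' e e' => ?_, fun b d e => ?_⟩⟩
  · refine hP.inj _ _ e ?_
    have hd := key (β z) (β z') (congrArg TrivSqZeroExt.snd e')
    rw [hβ, hβ, e] at hd
    exact sub_left_inj.1 hd
  · obtain ⟨c, hcc⟩ := B.res_surjective (TrivSqZeroExt.snd d)
    obtain ⟨z, hz, hz'⟩ := hP.surj b (b + c * t) (by rw [map_add, map_mul, ht0, mul_zero, add_zero])
    refine ⟨z, hz, TrivSqZeroExt.ext ?_ ?_⟩
    · change P.res z = TrivSqZeroExt.fst d
      rw [← hres1, hz]
      exact e
    · change B.res (β z) = TrivSqZeroExt.snd d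
      rw [← hcc]
      exact key' _ _ (by rw [hβ, hz, hz', add_sub_cancel_left])

theorem diag_diff {A B P : Art Λ k} {p : B ⟶ A} (hp : Art.IsSmallExt p) {t : B}
    (ht : RingHom.ker p.toAlgHom = Ideal.span {t}) {p₁ p₂ : P ⟶ B} (_hP : Art.IsFibreProd p₁ p₂ p p)
    {g : P ⟶ Art.dual Λ k}
    (hg : ∀ (z : P) (b : B), B.res b = TrivSqZeroExt.snd (g z) → b * t = p₂ z - p₁ z)
    {d : B ⟶ P} (h₁ : d ≫ p₁ = 𝟙 B) (h₂ : d ≫ p₂ = 𝟙 B) : d ≫ g = zeroHom B := by
  refine hom_dual_ext fun b => ?_
  rw [zeroHom_snd]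
  obtain ⟨c, hc⟩ := B.res_surjective (TrivSqZeroExt.snd ((d ≫ g) b))
  rw [← hc, ← B.mem_maximalIdeal_iff, IsLocalRing.mem_maximalIdeal]
  intro hu
  have := hg (d b) c hc
  rw [← comp_apply' d p₁, ← comp_apply' d p₂, h₁, h₂, sub_self] at this
  exact hp.2.1 (by rw [ht, (hu.mul_right_eq_zero).1 this, Ideal.span_singleton_eq_bot])

end SmallExt

section Pullback

variable {F G H : Art Λ k ⥤ Type v} (f : H ⟶ F) (g : G ⟶ F)

theorem pb_isPullback (A : Art Λ k) :
    IsPullback ((pullback.fst f g).app A) ((pullback.snd f g).app A) (f.app A) (g.app A) :=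
  Functor.map_isPullback ((evaluation (Art Λ k) (Type v)).obj A) (IsPullback.of_hasPullback f g)

theorem pb_ext {A : Art Λ k} {z z' : (pullback f g).obj A}
    (h₁ : (pullback.fst f g).app A z = (pullback.fst f g).app A z')
    (h₂ : (pullback.snd f g).app A z = (pullback.snd f g).app A z') : z = z' :=
  Types.ext_of_isPullback (pb_isPullback f g A) h₁ h₂

theorem pb_exists {A : Art Λ k} (x : H.obj A) (y : G.obj A) (e : f.app A x = g.app A y) :
    ∃ z : (pullback f g).obj A, (pullback.fst f g).app A z = x ∧ (pullback.snd f g).app A z = y :=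
  Types.exists_of_isPullback (pb_isPullback f g A) x y e

theorem pb_condition {A : Art Λ k} (z : (pullback f g).obj A) :
    f.app A ((pullback.fst f g).app A z) = g.app A ((pullback.snd f g).app A z) :=
  congrArg (fun h => h.app A z) (pullback.condition (f := f) (g := g))

end Pullback

end Groth.Agent.ArtFunLib
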