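import Groth.Prelude.Def_ArtFun2
import Groth.Prelude.Def_ArtFun3
import Mathlib.RingTheory.HopkinsLevitzki
import Mathlib.RingTheory.IntegralClosure.IsIntegralClosure.Basic

/-!
# Basic facts on the category of Artinian local algebras with fixed residue field
-/

universe u v

open CategoryTheory IsLocalRing ArtFun

namespace Groth.Agent.ArtFunLib

variable {Λ : Type u} {k : Type u} [CommRing Λ] [Field k] [Algebra Λ k]

theorem ker_le_max {A B : Art Λ k} (f : B ⟶ A) : RingHom.ker f.toAlgHom ≤ maximalIdeal B := by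
  intro x hx
  rw [Art.mem_maximalIdeal_iff, ← Art.res_app f x, RingHom.mem_ker.1 hx, map_zero]

theorem map_mem_max {A B : Art Λ k} (f : B ⟶ A) {x : B} (hx : x ∈ maximalIdeal B) :
    f x ∈ maximalIdeal A := by
  rw [Art.mem_maximalIdeal_iff] at hx ⊢
  rw [Art.res_app, hx]

theorem map_max_le {A B : Art Λ k} (f : B ⟶ A) :
    Ideal.map f.toAlgHom (maximalIdeal B) ≤ maximalIdeal A :=
  Ideal.map_le_iff_le_comap.2 fun _ hx => map_mem_max f hx

theorem map_max_eq_of_surjective {A B : Art Λ k} (f : B ⟶ A) (hf : Function.Surjective f) :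
    Ideal.map f.toAlgHom (maximalIdeal B) = maximalIdeal A := by
  refine le_antisymm (map_max_le f) fun a ha => ?_
  obtain ⟨b, rfl⟩ := hf a
  refine Ideal.mem_map_of_mem _ ?_
  rw [Art.mem_maximalIdeal_iff] at ha ⊢
  rwa [← Art.res_app f b]

theorem maximalIdeal_nilpotent (A : Art Λ k) : ∃ n, maximalIdeal A ^ n = ⊥ :=
  (isArtinianRing_iff_isNilpotent_maximalIdeal A).1 A.isArtinianRing

theorem isIso_of_bijective {A B : Art Λ k} (f : B ⟶ A) (hf : Function.Bijective f) : IsIso f := by
  let e := AlgEquiv.ofBijective f.toAlgHom hf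
  refine ⟨⟨e.symm.toAlgHom, ?_⟩, ?_, ?_⟩
  · apply AlgHom.ext
    intro a
    obtain ⟨b, rfl⟩ := hf.2 a
    change B.res (e.symm (e b)) = A.res (f b)
    rw [e.symm_apply_apply, Art.res_app]
  · exact Art.hom_ext (AlgHom.ext fun b => e.symm_apply_apply b)
  · exact Art.hom_ext (AlgHom.ext fun a => e.apply_symm_apply a)

theorem bijective_of_isIso {A B : Art Λ k} (f : B ⟶ A) [IsIso f] : Function.Bijective f := by
  refine Function.bijective_iff_has_inverse.2 ⟨(inv f : A ⟶ B), fun b => ?_, fun a => ?_⟩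
  · exact (Art.comp_apply f (inv f) b).symm.trans (by rw [IsIso.hom_inv_id]; rfl)
  · exact (Art.comp_apply (inv f) f a).symm.trans (by rw [IsIso.inv_hom_id]; rfl)

theorem quotFactor_mk {C D : Art Λ k} {K : Ideal C} (hK : K ≤ maximalIdeal C) (p : C ⟶ D)
    (hp : K ≤ RingHom.ker p.toAlgHom) (a : C) :
    Art.quotFactor hK p hp (Art.quotMk C K hK a) = p a := rfl

theorem quotMk_comp_quotFactor {C : Art Λ k} {K L : Ideal C} (hK : K ≤ maximalIdeal C)
    (hL : L ≤ maximalIdeal C) (hKL : K ≤ RingHom.ker (Art.quotMk C L hL).toAlgHom) {D : Art Λ k}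
    (p : C ⟶ D) (hp : K ≤ RingHom.ker p.toAlgHom) (hp' : L ≤ RingHom.ker p.toAlgHom) :
    Art.quotFactor hK (Art.quotMk C L hL) hKL ≫ Art.quotFactor hL p hp' = Art.quotFactor hK p hp := by
  apply Art.hom_ext
  apply AlgHom.ext
  intro x
  obtain ⟨a, rfl⟩ := Art.quotMk_surjective C K hK x
  rfl

theorem quotFactor_surjective {C D : Art Λ k} {K : Ideal C} (hK : K ≤ maximalIdeal C) (p : C ⟶ D)
    (hp : K ≤ RingHom.ker p.toAlgHom) (hs : Function.Surjective p) :
    Function.Surjective (Art.quotFactor hK p hp) := fun d => by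
  obtain ⟨a, rfl⟩ := hs d
  exact ⟨Art.quotMk C K hK a, rfl⟩

theorem quotMk_eq_zero_iff {C : Art Λ k} {K : Ideal C} (hK : K ≤ maximalIdeal C) (a : C) :
    (Art.quotMk C K hK).toAlgHom a = 0 ↔ a ∈ K := Ideal.Quotient.eq_zero_iff_mem

theorem quotMk_eq_iff {C : Art Λ k} {K : Ideal C} (hK : K ≤ maximalIdeal C) (a b : C) :
    (Art.quotMk C K hK).toAlgHom a = (Art.quotMk C K hK).toAlgHom b ↔ a - b ∈ K := Ideal.Quotient.eq

/-- A nonzero element of an ideal killed by the maximal ideal, modulo a smaller ideal. -/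
theorem exists_socle {A : Art Λ k} {K J : Ideal A} (hKJ : K ≤ J) (h : K ≠ J) :
    ∃ x ∈ J, x ∉ K ∧ ∀ a ∈ maximalIdeal A, a * x ∈ K := by
  classical
  obtain ⟨N, hN⟩ := maximalIdeal_nilpotent A
  have hex : ∃ n, maximalIdeal A ^ n * J ≤ K := ⟨N, by simp [hN]⟩
  cases hn : Nat.find hex with
  | zero =>
    have := Nat.find_spec hex
    rw [hn, pow_zero, Ideal.one_eq_top, Ideal.top_mul] at this
    exact absurd (le_antisymm hKJ this) h
  | succ n =>
    have h1 := Nat.find_spec hex
    rw [hn] at h1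
    have h2 := Nat.find_min hex (m := n) (by omega)
    obtain ⟨x, hx, hxK⟩ := SetLike.not_le_iff_exists.1 h2
    have hxJ : x ∈ J := (Ideal.mul_le_right : maximalIdeal A ^ n * J ≤ J) hx
    refine ⟨x, hxJ, hxK, fun a ha => SetLike.le_def.1 h1 ?_⟩
    rw [pow_succ', mul_assoc]
    exact Ideal.mul_mem_mul ha hx

/-- The step of the induction: dividing one socle element out gives a small extension. -/
theorem isSmallExt_quot_step {C : Art Λ k} {K : Ideal C} (hK : K ≤ maximalIdeal C) {x : C}
    (hxK : x ∉ K) (hx : ∀ a ∈ maximalIdeal C, a * x ∈ K)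
    (hL : K ⊔ Ideal.span {x} ≤ maximalIdeal C)
    (hKL : K ≤ RingHom.ker (Art.quotMk C (K ⊔ Ideal.span {x}) hL).toAlgHom) :
    Art.IsSmallExt (Art.quotFactor hK (Art.quotMk C (K ⊔ Ideal.span {x}) hL) hKL) := by
  have hker : RingHom.ker (Art.quotFactor hK (Art.quotMk C (K ⊔ Ideal.span {x}) hL) hKL).toAlgHom =
      Ideal.span {(Art.quotMk C K hK).toAlgHom x} := by
    apply le_antisymm
    · intro z hz
      obtain ⟨c, rfl⟩ := Art.quotMk_surjective C K hK z
      have hc : c ∈ K ⊔ Ideal.span {x} := (quotMk_eq_zero_iff hL c).1 (RingHom.mem_ker.1 hz)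
      obtain ⟨c₁, hc₁, c₂, hc₂, rfl⟩ := Submodule.mem_sup.1 hc
      obtain ⟨r, rfl⟩ := Ideal.mem_span_singleton'.1 hc₂
      refine Ideal.mem_span_singleton'.2 ⟨(Art.quotMk C K hK).toAlgHom r, ?_⟩
      rw [← map_mul, quotMk_eq_iff]
      rw [sub_add_cancel_right]
      exact K.neg_mem hc₁
    · rw [Ideal.span_le, Set.singleton_subset_iff]
      exact RingHom.mem_ker.2 ((quotMk_eq_zero_iff hL x).2
        (Ideal.mem_sup_right (Ideal.mem_span_singleton_self x)))
  refine ⟨quotFactor_surjective hK _ hKL (Art.quotMk_surjective _ _ _), ?_, ?_, ?_⟩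
  · rw [hker, Ne, Ideal.span_singleton_eq_bot]
    exact fun h => hxK ((quotMk_eq_zero_iff hK x).1 h)
  · rw [hker]; exact ⟨⟨_, rfl⟩⟩
  · rw [hker, eq_bot_iff, Ideal.mul_le]
    intro a ha b hb
    obtain ⟨r, rfl⟩ := Ideal.mem_span_singleton'.1 hb
    obtain ⟨a', rfl⟩ := Art.quotMk_surjective C K hK a
    obtain ⟨r', rfl⟩ := Art.quotMk_surjective C K hK r
    have ha' : a' ∈ maximalIdeal C := by
      rw [Art.mem_maximalIdeal_iff] at ha ⊢
      rwa [← Art.res_app (Art.quotMk C K hK) a']
    rw [Ideal.mem_bot]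
    change (Art.quotMk C K hK).toAlgHom a' *
      ((Art.quotMk C K hK).toAlgHom r' * (Art.quotMk C K hK).toAlgHom x) = 0
    rw [← map_mul, ← map_mul, quotMk_eq_zero_iff, mul_left_comm]
    exact K.mul_mem_left _ (hx a' ha')

/-- Induction over surjections: isomorphisms, small extensions and composites suffice. -/
theorem surj_induction (P : ∀ ⦃A B : Art Λ k⦄, (B ⟶ A) → Prop)
    (hiso : ∀ ⦃A B : Art Λ k⦄ (e : B ⟶ A), IsIso e → P e)
    (hsmall : ∀ ⦃A B : Art Λ k⦄ (p : B ⟶ A), Art.IsSmallExt p → P p)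
    (hcomp : ∀ ⦃A B C : Art Λ k⦄ (p : C ⟶ B) (q : B ⟶ A),
      Function.Surjective p → Function.Surjective q → P p → P q → P (p ≫ q))
    ⦃A B : Art Λ k⦄ (f : B ⟶ A) (hf : Function.Surjective f) : P f := by
  have key : ∀ (K : Ideal B) (hK : K ≤ RingHom.ker f.toAlgHom),
      P (Art.quotFactor (hK.trans (ker_le_max f)) f hK) := by
    intro K
    induction K using WellFoundedGT.induction with
    | ind K ih =>
      intro hK
      by_cases heq : K = RingHom.ker f.toAlgHom
      · refine hiso _ (isIso_of_bijective _ ⟨?_, quotFactor_surjective _ f hK hf⟩)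
        intro a b hab
        obtain ⟨a, rfl⟩ := Art.quotMk_surjective B K (hK.trans (ker_le_max f)) a
        obtain ⟨b, rfl⟩ := Art.quotMk_surjective B K (hK.trans (ker_le_max f)) b
        refine (quotMk_eq_iff _ a b).2 ?_
        rw [heq, RingHom.mem_ker, map_sub, sub_eq_zero]
        exact hab
      · obtain ⟨x, hxJ, hxK, hx⟩ := exists_socle hK heq
        have hL : K ⊔ Ideal.span {x} ≤ RingHom.ker f.toAlgHom :=
          sup_le hK ((Ideal.span_singleton_le_iff_mem _).2 hxJ)
        have hKm : K ≤ maximalIdeal B := hK.trans (ker_le_max f)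
        have hLm := hL.trans (ker_le_max f)
        have hlt : K < K ⊔ Ideal.span {x} := lt_of_le_of_ne le_sup_left fun h =>
          hxK (h ▸ Ideal.mem_sup_right (Ideal.mem_span_singleton_self x))
        have hKL : K ≤ RingHom.ker (Art.quotMk B _ hLm).toAlgHom := fun a ha =>
          RingHom.mem_ker.2 ((quotMk_eq_zero_iff _ a).2 (Ideal.mem_sup_left ha))
        rw [← quotMk_comp_quotFactor hKm hLm hKL f hK hL]
        exact hcomp _ _ (quotFactor_surjective _ _ _ (Art.quotMk_surjective _ _ _))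
          (quotFactor_surjective _ _ _ hf)
          (hsmall _ (isSmallExt_quot_step hKm hxK hx hLm hKL)) (ih _ hlt hL)
  have h0 := key ⊥ bot_le
  have hi : IsIso (Art.quotMk B ⊥ bot_le) := isIso_of_bijective _
    ⟨fun a b hab => by
      have := (quotMk_eq_iff _ a b).1 hab
      rwa [Ideal.mem_bot, sub_eq_zero] at this, Art.quotMk_surjective _ _ _⟩
  rw [← Art.quotMk_quotFactor bot_le f bot_le]
  exact hcomp _ _ (Art.quotMk_surjective _ _ _) (quotFactor_surjective _ _ _ hf) (hiso _ hi) h0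

/-- In a small extension the maximal ideal kills the kernel. -/
theorem mul_eq_zero_of_semismall {A B : Art Λ k} {p : B ⟶ A} (hp : Art.IsSemismallExt p) {a x : B}
    (ha : a ∈ maximalIdeal B) (hx : p x = 0) : a * x = 0 := by
  have : a * x ∈ maximalIdeal B * RingHom.ker p.toAlgHom := Ideal.mul_mem_mul ha (RingHom.mem_ker.2 hx)
  rw [hp.2] at this
  exact this

section Finiteness

variable [IsNoetherianRing Λ] [Module.Finite Λ k]

variable (Λ k) in
theorem ker_algebraMap_isMaximal : (RingHom.ker (algebraMap Λ k)).IsMaximal :=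
  Algebra.ker_algebraMap_isMaximal_of_isIntegral Λ k

variable (Λ k) in
theorem isArtinian_base : IsArtinian Λ k := by
  have hm := ker_algebraMap_isMaximal Λ k
  let := Ideal.Quotient.field (RingHom.ker (algebraMap Λ k))
  let : Algebra (Λ ⧸ RingHom.ker (algebraMap Λ k)) k :=
    (Ideal.Quotient.lift _ (algebraMap Λ k) (fun a ha => ha)).toAlgebra
  have : IsScalarTower Λ (Λ ⧸ RingHom.ker (algebraMap Λ k)) k :=
    IsScalarTower.of_algebraMap_eq fun _ => rfl
  have : Module.Finite (Λ ⧸ RingHom.ker (algebraMap Λ k)) k :=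
    Module.Finite.of_restrictScalars_finite Λ _ _
  exact isArtinian_of_surjective_algebraMap (R := Λ ⧸ RingHom.ker (algebraMap Λ k))
    Ideal.Quotient.mk_surjective

/-- Objects have finite length over `Λ`. -/
theorem finiteLength (A : Art Λ k) : IsNoetherian Λ A ∧ IsArtinian Λ A := by
  have := isArtinian_base Λ k
  suffices h : (IsNoetherian Λ (Art.base Λ k) ∧ IsArtinian Λ (Art.base Λ k)) →
      IsNoetherian Λ A ∧ IsArtinian Λ A from
    h ⟨inferInstanceAs (IsNoetherian Λ k), inferInstanceAs (IsArtinian Λ k)⟩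
  refine surj_induction (fun A B (_ : B ⟶ A) =>
    (IsNoetherian Λ A ∧ IsArtinian Λ A) → IsNoetherian Λ B ∧ IsArtinian Λ B) ?_ ?_ ?_
    (Art.toBase A) A.res_surjective
  · intro A B e he h
    have := h.1
    have := h.2
    exact ⟨isNoetherian_of_injective e.toAlgHom.toLinearMap (bijective_of_isIso e).1,
      isArtinian_of_injective e.toAlgHom.toLinearMap (bijective_of_isIso e).1⟩
  · intro A B p hp h
    have := h.1
    have := h.2
    obtain ⟨t, ht⟩ := hp.2.2.1
    have htk : p t = 0 := RingHom.mem_ker.1 (ht ▸ Submodule.mem_span_singleton_self t)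
    have hlift := Classical.axiomOfChoice B.res_surjective
    obtain ⟨s, hs⟩ := hlift
    have key : ∀ b b' : B, B.res b = B.res b' → b * t = b' * t := fun b b' e => by
      rw [← sub_eq_zero, ← sub_mul]
      exact mul_eq_zero_of_semismall hp.isSemismallExt
        ((B.mem_maximalIdeal_iff _).2 (by rw [map_sub, e, sub_self])) htk
    let ι : k →ₗ[Λ] B :=
      { toFun := fun c => s c * t
        map_add' := fun a b => by
          rw [← add_mul]
          exact key _ _ (by rw [hs, map_add, hs, hs])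
        map_smul' := fun r a => by
          rw [RingHom.id_apply, ← smul_mul_assoc]
          exact key _ _ (by rw [hs, map_smul, hs]) }
    have hr : LinearMap.range ι = LinearMap.ker p.toAlgHom.toLinearMap := by
      apply le_antisymm
      · rintro _ ⟨c, rfl⟩
        change p.toAlgHom (s c * t) = 0
        rw [map_mul]
        exact mul_eq_zero_of_right _ htk
      · intro b (hb : p.toAlgHom b = 0)
        have : b ∈ Submodule.span B {t} := by rw [← ht]; exact RingHom.mem_ker.2 hb
        obtain ⟨c, rfl⟩ := Submodule.mem_span_singleton.1 this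
        exact ⟨B.res c, key _ _ (hs _)⟩
    exact ⟨isNoetherian_of_range_eq_ker ι p.toAlgHom.toLinearMap hr,
      isArtinian_of_range_eq_ker ι p.toAlgHom.toLinearMap hr⟩
  · exact fun A B C p q _ _ hp hq h => hp (hq h)

end Finiteness

end Groth.Agent.ArtFunLib
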