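import Groth.Agent.ArtFunLib.Formal
import Mathlib.RingTheory.Nakayama
import Mathlib.RingTheory.Derivation.Basic

/-!
# Surjectivity through cotangent spaces
-/

universe u v

open IsLocalRing

namespace Groth.Agent.ArtFunLib

variable {Λ : Type u} {k : Type u} [CommRing Λ] [Field k] [Algebra Λ k]

theorem mem_max_iff_of_surjective {S : Type u} [CommRing S] [IsLocalRing S] (res : S →+* k)
    (hres : Function.Surjective res) {x : S} : x ∈ maximalIdeal S ↔ res x = 0 := by
  rw [← IsLocalRing.eq_maximalIdeal (RingHom.ker_isMaximal_of_surjective res hres), RingHom.mem_ker]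

section TwoRings

variable {R S : Type u} [CommRing R] [CommRing S] [IsLocalRing R] [IsLocalRing S] [IsNoetherianRing S]
variable [Algebra Λ R] [Algebra Λ S] (f : R →ₐ[Λ] S)
variable {resR : R →ₐ[Λ] k} {resS : S →ₐ[Λ] k}

theorem map_le_max (hR : Function.Surjective resR) (hS : Function.Surjective resS)
    (hf : resS.comp f = resR) : Ideal.map f (maximalIdeal R) ≤ maximalIdeal S :=
  Ideal.map_le_iff_le_comap.2 fun a ha => by
    rw [Ideal.mem_comap, mem_max_iff_of_surjective (resS : S →+* k) hS]
    have := congrArg (fun ψ => ψ a) hf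
    exact this.trans ((mem_max_iff_of_surjective (resR : R →+* k) hR).1 ha)

/-- A local map of complete rings which is surjective on cotangent spaces is surjective. -/
theorem surjective_of_cotangent (hR : Function.Surjective resR) (hS : Function.Surjective resS)
    (hf : resS.comp f = resR) [IsPrecomplete (maximalIdeal R) R] [IsHausdorff (maximalIdeal S) S]
    (h : Ideal.map f (maximalIdeal R) ⊔ maximalIdeal S ^ 2 = maximalIdeal S) : Function.Surjective f := by
  have hle := map_le_max f hR hS hf
  have hM : Ideal.map f (maximalIdeal R) = maximalIdeal S := by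
    refine le_antisymm hle (Submodule.le_of_le_smul_of_le_jacobson_bot (I := maximalIdeal S)
      (IsNoetherian.noetherian _) (le_of_eq (IsLocalRing.jacobson_eq_maximalIdeal ⊥ bot_ne_top).symm) ?_)
    rw [smul_eq_mul, ← pow_two, h]
  have hlift : ∀ s : S, ∃ r : R, s - f r ∈ maximalIdeal S := fun s => by
    obtain ⟨r, hr⟩ := hR (resS s)
    refine ⟨r, (mem_max_iff_of_surjective (resS : S →+* k) hS).2 ?_⟩
    have := congrArg (fun ψ => ψ r) hf
    simp only [AlgHom.comp_apply] at this
    rw [RingHom.coe_coe, map_sub, this, hr, sub_self]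
  have step : ∀ n, ∀ e ∈ maximalIdeal S ^ n, ∃ r ∈ maximalIdeal R ^ n, e - f r ∈ maximalIdeal S ^ (n + 1) := by
    intro n e he
    rw [← hM, ← Ideal.map_pow, Ideal.map] at he
    induction he using Submodule.span_induction with
    | mem x hx =>
      obtain ⟨r, hr, rfl⟩ := hx
      exact ⟨r, hr, by rw [sub_self]; exact zero_mem _⟩
    | zero => exact ⟨0, zero_mem _, by rw [map_zero, sub_self]; exact zero_mem _⟩
    | add x y _ _ hx hy =>
      obtain ⟨a, ha, ha'⟩ := hx
      obtain ⟨b, hb, hb'⟩ := hy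
      exact ⟨a + b, add_mem ha hb, by rw [map_add, add_sub_add_comm]; exact add_mem ha' hb'⟩
    | smul c x hx' hx =>
      obtain ⟨a, ha, ha'⟩ := hx
      obtain ⟨r, hr⟩ := hlift c
      refine ⟨r * a, Ideal.mul_mem_left _ r ha, ?_⟩
      have : c • x - f (r * a) = f r * (x - f a) + (c - f r) * x := by rw [smul_eq_mul, map_mul]; ring
      rw [this]
      refine add_mem (Ideal.mul_mem_left _ _ ha') ?_
      rw [pow_succ']
      refine Ideal.mul_mem_mul hr ?_
      rw [← hM, ← Ideal.map_pow, Ideal.map]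
      exact hx'
  intro s
  choose next hnext hnext' using step
  let seq : ∀ n, {r : R // s - f r ∈ maximalIdeal S ^ n} :=
    fun n => Nat.rec (motive := fun n => {r : R // s - f r ∈ maximalIdeal S ^ n}) ⟨0, by simp⟩ (fun n p => ⟨p.1 + next n _ p.2, by
      rw [map_add, ← sub_sub]; exact hnext' n _ p.2⟩) n
  have hdiff : ∀ n, (seq (n + 1)).1 - (seq n).1 ∈ maximalIdeal R ^ n := fun n => by
    change (seq n).1 + _ - (seq n).1 ∈ _
    rw [add_sub_cancel_left]
    exact hnext n _ (seq n).2
  have hcauchy : ∀ m n, m ≤ n → (seq n).1 - (seq m).1 ∈ maximalIdeal R ^ m := by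
    intro m n hmn
    induction n, hmn using Nat.le_induction with
    | base => rw [sub_self]; exact zero_mem _
    | succ n hmn ih =>
      rw [← sub_add_sub_cancel _ (seq n).1 (seq m).1]
      exact add_mem (Ideal.pow_le_pow_right hmn (hdiff n)) ih
  obtain ⟨L, hL⟩ := IsPrecomplete.prec (I := maximalIdeal R) inferInstance
    (f := fun n => (seq n).1) (fun {m n} hmn => by
      rw [SModEq.sub_mem, smul_eq_mul, Ideal.mul_top, ← neg_sub]
      exact neg_mem (hcauchy m n hmn))
  refine ⟨L, sub_eq_zero.1 (IsHausdorff.haus (I := maximalIdeal S) inferInstance _ fun n => ?_)⟩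
  rw [SModEq.zero, smul_eq_mul, Ideal.mul_top]
  have h1 := hL n
  rw [SModEq.sub_mem, smul_eq_mul, Ideal.mul_top] at h1
  have h2 : f ((seq n).1 - L) ∈ maximalIdeal S ^ n :=
    (Ideal.pow_right_mono hle n) (Ideal.map_pow f (maximalIdeal R) n ▸ Ideal.mem_map_of_mem f h1)
  rw [map_sub] at h2
  have : f L - s = -(s - f (seq n).1) - (f (seq n).1 - f L) := by ring
  rw [this]
  exact sub_mem (neg_mem (seq n).2) h2

theorem lambda_part_le (hR : Function.Surjective resR) :
    Ideal.map (algebraMap Λ S) (RingHom.ker (algebraMap Λ k)) ≤ Ideal.map f (maximalIdeal R) :=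
  Ideal.map_le_iff_le_comap.2 fun a ha => by
    rw [Ideal.mem_comap, ← f.commutes]
    refine Ideal.mem_map_of_mem f ((mem_max_iff_of_surjective (resR : R →+* k) hR).2 ?_)
    rw [RingHom.coe_coe, AlgHom.commutes]
    exact ha

theorem surjective_tfae (hR : Function.Surjective resR) (hS : Function.Surjective resS)
    (hf : resS.comp f = resR) [IsPrecomplete (maximalIdeal R) R] [IsHausdorff (maximalIdeal S) S] :
    List.TFAE [Function.Surjective f,
      Ideal.map f (maximalIdeal R) ⊔ maximalIdeal S ^ 2 = maximalIdeal S,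
      Ideal.map (algebraMap Λ S) (RingHom.ker (algebraMap Λ k)) ⊔ Ideal.map f (maximalIdeal R) ⊔
        maximalIdeal S ^ 2 = maximalIdeal S] := by
  tfae_have 1 → 2 := fun h => by
    refine le_antisymm (sup_le (map_le_max f hR hS hf) (Ideal.pow_le_self two_ne_zero)) fun x hx => ?_
    obtain ⟨r, rfl⟩ := h x
    refine Ideal.mem_sup_left (Ideal.mem_map_of_mem f ((mem_max_iff_of_surjective (resR : R →+* k) hR).2 ?_))
    rw [← hf]
    exact (mem_max_iff_of_surjective (resS : S →+* k) hS).1 hx
  tfae_have 2 ↔ 3 := by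
    rw [sup_eq_right.2 (lambda_part_le f hR)]
  tfae_have 2 → 1 := surjective_of_cotangent f hR hS hf
  tfae_finish

end TwoRings

/-- Derivations to the residue field are determined by finitely many values. -/
theorem exists_finite_determining [Module.Finite Λ k] {S : Type u} [CommRing S] [IsLocalRing S]
    [IsNoetherianRing S] [Algebra Λ S] (res : S →ₐ[Λ] k) (hres : Function.Surjective res) :
    ∃ s : Finset S, ∀ δ : S →ₗ[Λ] k, (∀ a b, δ (a * b) = res a * δ b + res b * δ a) →
      (∀ x ∈ s, δ x = 0) → δ = 0 := by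
  classical
  obtain ⟨g, hg⟩ := IsNoetherian.noetherian (maximalIdeal S)
  obtain ⟨b, hb⟩ := Module.Finite.fg_top (R := Λ) (M := k)
  choose y hy using hres
  refine ⟨g ∪ b.image y, fun δ hδ h0 => LinearMap.ext fun x => ?_⟩
  have hm : ∀ e ∈ maximalIdeal S, δ e = 0 := fun e he => by
    rw [← hg] at he
    induction he using Submodule.span_induction with
    | mem z hz => exact h0 z (Finset.mem_union_left _ hz)
    | zero => exact map_zero δ
    | add p q _ _ hp hq => rw [map_add, hp, hq, add_zero]
    | smul c z hz hz' =>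
      have hz0 : res z = 0 := (mem_max_iff_of_surjective (res : S →+* k) (fun a => ⟨y a, hy a⟩)).1
        (by rw [← hg]; exact hz)
      rw [smul_eq_mul, hδ, hz', hz0, mul_zero, zero_mul, add_zero]
  have hspan : ∃ p ∈ Submodule.span Λ (b.image y : Set S), res p = res x := by
    have : res x ∈ Submodule.map res.toLinearMap (Submodule.span Λ (b.image y : Set S)) := by
      rw [Submodule.map_span, Finset.coe_image, Set.image_image]
      have : (fun a => res.toLinearMap (y a)) '' (b : Set k) = (b : Set k) := by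
        simp only [AlgHom.toLinearMap_apply, hy, Set.image_id']
      rw [this, hb]
      trivial
    exact this
  obtain ⟨p, hp, hpx⟩ := hspan
  have h1 : δ p = 0 :=
    (Submodule.span_le.2 (fun z hz => LinearMap.mem_ker.2 (h0 z (Finset.mem_union_right _ hz))) :
      Submodule.span Λ (b.image y : Set S) ≤ LinearMap.ker δ) hp
  rw [LinearMap.zero_apply, ← sub_add_cancel x p, map_add, h1, add_zero]
  exact hm _ ((mem_max_iff_of_surjective (res : S →+* k) (fun a => ⟨y a, hy a⟩)).2
    (by rw [RingHom.coe_coe, map_sub, hpx, sub_self]))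

/-- A derivation vanishing on the image, if the map is not surjective on cotangent spaces. -/
theorem exists_derivation_ne_zero {R S : Type u} [CommRing R] [CommRing S] [IsLocalRing R]
    [IsLocalRing S] [IsNoetherianRing S] [Algebra Λ R] [Algebra Λ S] (f : R →ₐ[Λ] S)
    {resR : R →ₐ[Λ] k} (hR : Function.Surjective resR) [Algebra S k] [IsScalarTower Λ S k]
    (hres : Function.Surjective (algebraMap S k)) (hf : (IsScalarTower.toAlgHom Λ S k).comp f = resR)
    (h : Ideal.map f (maximalIdeal R) ⊔ maximalIdeal S ^ 2 ≠ maximalIdeal S) :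
    ∃ D : Derivation Λ S k, D ≠ 0 ∧ ∀ r, D (f r) = 0 := by
  classical
  let res := IsScalarTower.toAlgHom Λ S k
  have hres' : Function.Surjective res := hres
  have hle := map_le_max (resS := res) f hR hres' hf
  have hmS : ∀ x, x ∈ maximalIdeal S ↔ res x = 0 := fun x => mem_max_iff_of_surjective (res : S →+* k) hres'
  obtain ⟨J, ⟨hJ₀, hJ₁⟩, hmax⟩ :=
    WellFounded.has_min (r := ((· > ·) : Ideal S → Ideal S → Prop)) wellFounded_gt
      {J | Ideal.map f (maximalIdeal R) ⊔ maximalIdeal S ^ 2 ≤ J ∧ J < maximalIdeal S}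
      ⟨_, le_rfl, lt_of_le_of_ne (sup_le hle (Ideal.pow_le_self two_ne_zero)) h⟩
  obtain ⟨x, hx, hxJ⟩ := SetLike.exists_of_lt hJ₁
  have hgen : J ⊔ Ideal.span {x} = maximalIdeal S := by
    refine (sup_le hJ₁.le ((Ideal.span_singleton_le_iff_mem _).2 hx)).antisymm ?_
    by_contra hne
    exact hmax _ ⟨hJ₀.trans le_sup_left, lt_of_le_of_ne (sup_le hJ₁.le
      ((Ideal.span_singleton_le_iff_mem _).2 hx)) (fun e => hne e.ge)⟩
      (lt_of_le_of_ne le_sup_left fun e => hxJ (e ▸ Ideal.mem_sup_right (Ideal.mem_span_singleton_self x)))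
  have hm2 : ∀ a b, a ∈ maximalIdeal S → b ∈ maximalIdeal S → a * b ∈ J := fun a b ha hb =>
    hJ₀ (Ideal.mem_sup_right (by rw [pow_two]; exact Ideal.mul_mem_mul ha hb))
  have hJR : ∀ r ∈ maximalIdeal R, f r ∈ J := fun r hr => hJ₀ (Ideal.mem_sup_left (Ideal.mem_map_of_mem f hr))
  have hfres : ∀ r, res (f r) = resR r := fun r => congrArg (fun ψ => ψ r) hf
  choose ρ hρ using hR
  choose σ hσ using hres'
  have hex : ∀ s, ∃ c : k, s - f (ρ (res s)) - σ c * x ∈ J := fun s => by
    have : s - f (ρ (res s)) ∈ maximalIdeal S := by rw [hmS, map_sub, hfres, hρ, sub_self]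
    rw [← hgen] at this
    obtain ⟨j, hj, w, hw, e⟩ := Submodule.mem_sup.1 this
    obtain ⟨a, rfl⟩ := Ideal.mem_span_singleton'.1 hw
    refine ⟨res a, ?_⟩
    rw [← e, add_sub_assoc, ← sub_mul]
    exact add_mem hj (hm2 _ _ (by rw [hmS, map_sub, hσ, sub_self]) hx)
  choose δ hδ using hex
  have huniq : ∀ s a r, s - f r - a * x ∈ J → δ s = res a := fun s a r e => by
    by_contra hne
    have hrr : resR r = res s := by
      have := (hmS _).1 (hJ₁.le e)
      rw [map_sub, map_sub, map_mul, (hmS x).1 hx, mul_zero, sub_zero, hfres, sub_eq_zero] at this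
      exact this.symm
    have hf' : f r - f (ρ (res s)) ∈ J := by
      rw [← map_sub]
      refine hJR _ ((mem_max_iff_of_surjective (resR : R →+* k) (fun c => ⟨ρ c, hρ c⟩)).2 ?_)
      rw [RingHom.coe_coe, map_sub, hρ, hrr, sub_self]
    have hax : (σ (δ s) - a) * x ∈ J := by
      have : (σ (δ s) - a) * x = (s - f r - a * x) - (s - f (ρ (res s)) - σ (δ s) * x) +
        (f r - f (ρ (res s))) := by ring
      rw [this]
      exact add_mem (sub_mem e (hδ s)) hf'
    have hu : IsUnit (σ (δ s) - a) := by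
      by_contra hu
      rw [← mem_nonunits_iff, ← IsLocalRing.mem_maximalIdeal, hmS, map_sub, hσ, sub_eq_zero] at hu
      exact hne hu
    exact hxJ ((Ideal.unit_mul_mem_iff_mem J hu).1 hax)
  have hadd : ∀ a b, δ (a + b) = δ a + δ b := fun a b => by
    rw [huniq (a + b) (σ (δ a) + σ (δ b)) (ρ (res a) + ρ (res b)) (by
      convert add_mem (hδ a) (hδ b) using 1
      rw [map_add]; ring), map_add, hσ, hσ]
  have hmul : ∀ a b, δ (a * b) = res a * δ b + res b * δ a := fun a b => by
    rw [huniq (a * b) (a * σ (δ b) + b * σ (δ a)) (ρ (res a) * ρ (res b)) (by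
      have e : a * b - f (ρ (res a) * ρ (res b)) - (a * σ (δ b) + b * σ (δ a)) * x =
          (a - f (ρ (res a)) - σ (δ a) * x) * f (ρ (res b)) + (b - f (ρ (res b)) - σ (δ b) * x) * a -
            ((b - f (ρ (res b))) * (σ (δ a) * x)) := by
        rw [map_mul]; ring
      rw [e]
      refine sub_mem (add_mem (Ideal.mul_mem_right _ _ (hδ a)) (Ideal.mul_mem_right _ _ (hδ b)))
        (hm2 _ _ (by rw [hmS, map_sub, hfres, hρ, sub_self]) (Ideal.mul_mem_left _ _ hx))),
      map_add, map_mul, map_mul, hσ, hσ]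
  have hfδ : ∀ r, δ (f r) = 0 := fun r => by
    rw [huniq (f r) 0 r (by rw [sub_self, zero_mul, sub_zero]; exact zero_mem _), map_zero]
  have hΛ : ∀ l : Λ, δ (algebraMap Λ S l) = 0 := fun l => by rw [← f.commutes]; exact hfδ _
  refine ⟨Derivation.mk' ⟨⟨δ, hadd⟩, fun l a => ?_⟩ fun a b => ?_, fun hD => ?_, hfδ⟩
  · change δ (l • a) = l • δ a
    rw [Algebra.smul_def, hmul, hΛ, mul_zero, add_zero, AlgHom.commutes, ← Algebra.smul_def]
  · change δ (a * b) = a • δ b + b • δ a
    rw [hmul, Algebra.smul_def, Algebra.smul_def]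
    rfl
  · have h1 : δ x = 1 := by
      rw [huniq x 1 0 (by rw [map_zero, sub_zero, one_mul, sub_self]; exact zero_mem _), map_one]
    exact one_ne_zero (α := k) (h1.symm.trans (congrArg (fun D : Derivation Λ S k => D x) hD))

end Groth.Agent.ArtFunLib
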