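import Groth.Agent.ArtFunLib.Cotangent
import Groth.Agent.ArtFunLib.Functor
import Groth.Prelude.Def_W4sfdMinVersal

/-!
Maps of coefficient rings detected on dual numbers; endomorphisms of Noetherian rings; pushforwards
of formal elements.
-/

universe u v

open IsLocalRing CategoryTheory ArtFun

namespace Groth.Agent.ArtFunLib

variable {Λ : Type u} {k : Type u} [CommRing Λ] [Field k] [Algebra Λ k]

theorem bijective_of_surjective_endo {R : Type u} [CommRing R] [IsNoetherianRing R] (g : R →+* R)
    (hg : Function.Surjective g) : Function.Bijective g := by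
  refine ⟨(injective_iff_map_eq_zero g).2 fun x hx => ?_, hg⟩
  let G : ℕ → R →+* R := fun n => Nat.rec (RingHom.id R) (fun _ h => g.comp h) n
  have hmono : ∀ a b, a ≤ b → RingHom.ker (G a) ≤ RingHom.ker (G b) := by
    intro a b hab
    induction b, hab using Nat.le_induction with
    | base => exact le_rfl
    | succ b _ ih =>
      refine ih.trans fun z hz => ?_
      rw [RingHom.mem_ker] at hz ⊢
      show g (G b z) = 0
      rw [hz, map_zero]
  obtain ⟨n, hn⟩ := (monotone_stabilizes_iff_noetherian (R := R) (M := R)).2 inferInstance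
    ⟨fun n => RingHom.ker (G n), hmono⟩
  have hs : ∀ n, Function.Surjective (G n) := fun n => by
    induction n with
    | zero => exact Function.surjective_id
    | succ n ih => exact hg.comp ih
  obtain ⟨y, rfl⟩ := hs n x
  have h2 : y ∈ RingHom.ker (G n) := (SetLike.ext_iff.1 (hn (n + 1) (Nat.le_succ n)) y).2
    (show g (G n y) = 0 from hx)
  exact h2

theorem app_congr {R : Type u} [CommRing R] [Algebra Λ R] {resR : R →ₐ[Λ] k}
    {F : Art Λ k ⥤ Type v} (ξ : Family R resR F) {A : Art Λ k} {φ φ' : HomSet R resR A}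
    (h : φ.1 = φ'.1) : ξ.app A φ = ξ.app A φ' :=
  congrArg _ (Subtype.ext h)

/-- A map of coefficient rings which is injective on points in the dual numbers is surjective. -/
theorem surjective_of_dual_injective {R' R : CRing Λ k} (g : R'.carrier →ₐ[Λ] R.carrier)
    (hg : R.res.comp g = R'.res)
    (h : ∀ φ φ' : HomSet R.carrier R.res (Art.dual Λ k), φ.1.comp g = φ'.1.comp g → φ = φ') :
    Function.Surjective g := by
  have := R'.isAdicComplete
  have := R.isAdicComplete
  refine surjective_of_cotangent g R'.res_surjective R.res_surjective hg ?_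
  by_contra hne
  let : Algebra R.carrier k := (R.res : R.carrier →+* k).toAlgebra
  have : IsScalarTower Λ R.carrier k :=
    IsScalarTower.of_algebraMap_eq fun l => (R.res.commutes l).symm
  obtain ⟨D, hD, hDg⟩ := exists_derivation_ne_zero g R'.res_surjective (resR := R'.res)
    R.res_surjective hg hne
  have mk : ∀ E : Derivation Λ R.carrier k, ∃ φ : HomSet R.carrier R.res (Art.dual Λ k),
      ∀ s, TrivSqZeroExt.snd (show TrivSqZeroExt k k from φ.1 s) = E s ∧
        TrivSqZeroExt.fst (show TrivSqZeroExt k k from φ.1 s) = R.res s := fun E => by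
    refine ⟨⟨(
      { toFun := fun s => TrivSqZeroExt.inl (R.res s) + TrivSqZeroExt.inr (E s)
        map_one' := TrivSqZeroExt.ext (by simp) (by simp)
        map_mul' := fun a b => TrivSqZeroExt.ext (by simp) (by
          simp only [TrivSqZeroExt.snd_add, TrivSqZeroExt.snd_inl, TrivSqZeroExt.snd_inr, zero_add,
            TrivSqZeroExt.snd_mul, TrivSqZeroExt.fst_add, TrivSqZeroExt.fst_inl,
            TrivSqZeroExt.fst_inr, add_zero, Derivation.leibniz]
          rw [Algebra.smul_def, Algebra.smul_def, op_smul_eq_smul, smul_eq_mul, smul_eq_mul]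
          rfl)
        map_zero' := TrivSqZeroExt.ext (by simp) (by simp)
        map_add' := fun a b => TrivSqZeroExt.ext (by simp) (by simp)
        commutes' := fun l => by
          rw [AlgHom.commutes, Derivation.map_algebraMap, TrivSqZeroExt.inr_zero, add_zero,
            TrivSqZeroExt.algebraMap_eq_inl'] } :
        R.carrier →ₐ[Λ] TrivSqZeroExt k k), AlgHom.ext fun s => ?_⟩, fun s => ⟨?_, ?_⟩⟩
    · show TrivSqZeroExt.fst (TrivSqZeroExt.inl (R.res s) + TrivSqZeroExt.inr (E s)) = R.res s
      simp
    · show TrivSqZeroExt.snd (TrivSqZeroExt.inl (R.res s) + TrivSqZeroExt.inr (E s)) = E s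
      simp
    · show TrivSqZeroExt.fst (TrivSqZeroExt.inl (R.res s) + TrivSqZeroExt.inr (E s)) = R.res s
      simp
  obtain ⟨φ, hφ⟩ := mk D
  obtain ⟨φ₀, hφ₀⟩ := mk 0
  have e : φ = φ₀ := h φ φ₀ (AlgHom.ext fun r => TrivSqZeroExt.ext
    ((hφ (g r)).2.trans (hφ₀ (g r)).2.symm)
    ((hφ (g r)).1.trans ((hDg r).trans (hφ₀ (g r)).1.symm)))
  refine hD (Derivation.ext fun s => ?_)
  subst e
  exact (hφ s).1.symm.trans (hφ₀ s).1

/-- The pushforward of the formal element of `ξ` transported along `h`, along `g`. -/
theorem push_eq_along {R R₁ R₂ : CRing Λ k} {F : Art Λ k ⥤ Type v} (ξ : Family R.carrier R.res F)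
    (h : R.carrier →ₐ[Λ] R₁.carrier) (hh : R₁.res.comp h = R.res)
    (g : R₁.carrier →ₐ[Λ] R₂.carrier) (hg : R₂.res.comp g = R₁.res) (u : FormalElt F R₁)
    (hu : ∀ n, (ξ.along h hh).app (R₁.trunc n) (R₁.truncHom n) = u.elt n) :
    (ξ.along (g.comp h) (by rw [← AlgHom.comp_assoc, hg, hh])).toFormalElt = u.push g hg := by
  refine FormalElt.ext' fun n => ?_
  show _ = F.map (CRing.truncMapOfHom g hg n) (u.elt n)
  rw [← hu, ← (ξ.along h hh).natural]
  exact app_congr ξ (AlgHom.ext fun _ => rfl)

/-- An endomorphism of a coefficient ring fixing a formal element which is injective on tangent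
vectors is surjective. -/
theorem surjective_of_along_eq {R : CRing Λ k} {F : Art Λ k ⥤ Type v}
    (ξ : Family R.carrier R.res F) (hξ : Function.Injective (ξ.app (Art.dual Λ k)))
    (g : R.carrier →ₐ[Λ] R.carrier) (hg : R.res.comp g = R.res)
    (h : (ξ.along g hg).toFormalElt = ξ.toFormalElt) : Function.Surjective g := by
  refine surjective_of_dual_injective g hg fun φ φ' e => ?_
  have key : ∀ ψ : HomSet R.carrier R.res (Art.dual Λ k),
      (ξ.along g hg).app _ ψ = ξ.app _ ψ := fun ψ =>
    family_ext R (fun n => congrArg (fun u => FormalElt.elt u n) h) _ ψ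
  apply hξ
  rw [← key φ, ← key φ']
  exact app_congr ξ e

end Groth.Agent.ArtFunLib
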