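import Groth.Agent.ArtFunLib.Cotangent
import Groth.Agent.ArtFunLib.Functor
import Groth.Agent.ArtFunLib.PowerSeriesVersal
import Mathlib.RingTheory.Kaehler.Basic
import Mathlib.RingTheory.Etale.Field
import Mathlib.LinearAlgebra.Dual.Lemmas

/-!
Essential surjections of Artinian objects.
-/

universe u v

open IsLocalRing CategoryTheory ArtFun
open scoped TensorProduct

namespace Groth.Agent.ArtFunLib

variable {Λ : Type u} {k : Type u} [CommRing Λ] [Field k] [Algebra Λ k]

/-- surjective, and every morphism into the source which becomes surjective is surjective -/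
def IsEssential {A B : Art Λ k} (f : B ⟶ A) : Prop :=
  Function.Surjective f ∧ ∀ (C : Art Λ k) (g : C ⟶ B), Function.Surjective (g ≫ f) → Function.Surjective g

/-- the relative part plus the square of the maximal ideal -/
def relSq (B : Art Λ k) : Ideal B :=
  Ideal.map (algebraMap Λ B) (RingHom.ker (algebraMap Λ k)) ⊔ maximalIdeal B ^ 2

theorem relSq_le (B : Art Λ k) : relSq B ≤ maximalIdeal B := by
  refine sup_le (Ideal.map_le_iff_le_comap.2 fun a ha => ?_) (Ideal.pow_le_self two_ne_zero)
  rw [Ideal.mem_comap, mem_max_iff_of_surjective (B.res : B →+* k) B.res_surjective, RingHom.coe_coe,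
    AlgHom.commutes]
  exact ha

/-- the criterion of surjectivity on relative cotangent spaces -/
theorem surjective_art_iff {A B : Art Λ k} (f : B ⟶ A) : Function.Surjective f ↔
    Ideal.map (algebraMap Λ A) (RingHom.ker (algebraMap Λ k)) ⊔ Ideal.map f.toAlgHom (maximalIdeal B) ⊔
      maximalIdeal A ^ 2 = maximalIdeal A := by
  obtain ⟨N, hN⟩ := maximalIdeal_nilpotent A
  obtain ⟨M, hM⟩ := maximalIdeal_nilpotent B
  have := isAdicComplete_of_pow_eq_bot hN
  have := isAdicComplete_of_pow_eq_bot hM
  exact (surjective_tfae f.toAlgHom B.res_surjective A.res_surjective f.res_comp).out 0 2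

theorem surjective_of_ker_le_relSq {A B C : Art Λ k} (g : C ⟶ B) (q : B ⟶ A)
    (hq : RingHom.ker q.toAlgHom ≤ relSq B) (h : Function.Surjective (g ≫ q)) :
    Function.Surjective g := by
  refine (surjective_art_iff g).2 (le_antisymm (sup_le (sup_le (le_trans le_sup_left (relSq_le B))
    (map_max_le g)) (Ideal.pow_le_self two_ne_zero)) fun b hb => ?_)
  obtain ⟨c, hc⟩ := h (q b)
  have hc0 : c ∈ maximalIdeal C := by
    rw [mem_max_iff_of_surjective (C.res : C →+* k) C.res_surjective, RingHom.coe_coe,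
      ← Art.res_app (g ≫ q) c, hc, Art.res_app]
    exact (mem_max_iff_of_surjective (B.res : B →+* k) B.res_surjective).1 hb
  have h1 : b - g c ∈ relSq B := hq (RingHom.mem_ker.2 (by
    rw [map_sub, sub_eq_zero]; exact hc.symm))
  rw [← sub_add_cancel b (g c)]
  refine add_mem (?_ : _ ∈ _) (Ideal.mem_sup_left (Ideal.mem_sup_right (Ideal.mem_map_of_mem _ hc0)))
  exact (sup_le (le_sup_of_le_left le_sup_left) le_sup_right : relSq B ≤ _) h1

theorem isEssential_of_ker_le {A B : Art Λ k} (f : B ⟶ A) (hf : Function.Surjective f)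
    (h : RingHom.ker f.toAlgHom ≤ relSq B) : IsEssential f :=
  ⟨hf, fun _ g hg => surjective_of_ker_le_relSq g f h hg⟩

theorem exists_derivation_of_not_surjective {A B : Art Λ k} (f : B ⟶ A) [Algebra A k]
    (hA : algebraMap A k = (A.res : A →+* k)) [IsScalarTower Λ A k] (hf : ¬ Function.Surjective f) :
    ∃ D : Derivation Λ A k, D ≠ 0 ∧ ∀ b, D (f b) = 0 := by
  refine exists_derivation_ne_zero f.toAlgHom B.res_surjective
    (fun c => ?_) (AlgHom.ext fun b => ?_) fun he => hf ?_
  · rw [hA]; exact A.res_surjective c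
  · show algebraMap A k (f b) = B.res b
    rw [hA]; exact Art.res_app f b
  · obtain ⟨N, hN⟩ := maximalIdeal_nilpotent A
    obtain ⟨M, hM⟩ := maximalIdeal_nilpotent B
    have := isAdicComplete_of_pow_eq_bot hN
    have := isAdicComplete_of_pow_eq_bot hM
    exact surjective_of_cotangent f.toAlgHom B.res_surjective A.res_surjective f.res_comp he

theorem derivation_smul_res {B : Art Λ k} [Algebra B k] (hB : algebraMap B k = (B.res : B →+* k))
    (D : Derivation Λ B k) (a b : B) : D (a * b) = B.res a * D b + B.res b * D a := by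
  rw [Derivation.leibniz, Algebra.smul_def, Algebra.smul_def, hB]
  rfl

/-- essential surjections are the surjections such that every derivation into `k` kills the kernel -/
theorem isEssential_iff_derivation [IsNoetherianRing Λ] [Module.Finite Λ k] {A B : Art Λ k}
    (f : B ⟶ A) (hf : Function.Surjective f) [Algebra B k] (hB : algebraMap B k = (B.res : B →+* k))
    [IsScalarTower Λ B k] :
    IsEssential f ↔ ∀ (D : Derivation Λ B k) (x : B), f x = 0 → D x = 0 := by
  have hres : ∀ x, f x = 0 → B.res x = 0 := fun x hx => by rw [← Art.res_app f, hx, map_zero]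
  constructor
  · intro he D x hx
    by_contra hDx
    let φ : B ⟶ Art.dual Λ k :=
      ⟨({ toFun := fun b => TrivSqZeroExt.inl (B.res b) + TrivSqZeroExt.inr (D b)
          map_one' := TrivSqZeroExt.ext (by simp) (by simp)
          map_mul' := fun a b => TrivSqZeroExt.ext (by simp) (by
            simp only [TrivSqZeroExt.snd_add, TrivSqZeroExt.snd_inl, TrivSqZeroExt.snd_inr, zero_add,
              TrivSqZeroExt.snd_mul, TrivSqZeroExt.fst_add, TrivSqZeroExt.fst_inl,
              TrivSqZeroExt.fst_inr, add_zero, derivation_smul_res hB]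
            rw [op_smul_eq_smul, smul_eq_mul, smul_eq_mul])
          map_zero' := TrivSqZeroExt.ext (by simp) (by simp)
          map_add' := fun a b => TrivSqZeroExt.ext (by simp) (by simp)
          commutes' := fun l => by
            rw [AlgHom.commutes, Derivation.map_algebraMap, TrivSqZeroExt.inr_zero, add_zero,
              TrivSqZeroExt.algebraMap_eq_inl'] } :
          B →ₐ[Λ] TrivSqZeroExt k k), AlgHom.ext fun b => by
        show TrivSqZeroExt.fst (TrivSqZeroExt.inl (B.res b) + TrivSqZeroExt.inr (D b)) = B.res b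
        simp⟩
    have hφ : ∀ b, TrivSqZeroExt.snd (show TrivSqZeroExt k k from φ b) = D b := fun b => by
      show TrivSqZeroExt.snd (TrivSqZeroExt.inl (B.res b) + TrivSqZeroExt.inr (D b)) = D b
      simp
    let i : Art.base Λ k ⟶ Art.dual Λ k :=
      ⟨(TrivSqZeroExt.inlAlgHom Λ k k : k →ₐ[Λ] TrivSqZeroExt k k),
        AlgHom.ext fun c => TrivSqZeroExt.fst_inl k c⟩
    have hfix : ∀ b, ∃ a, D (b - a * x) = 0 := fun b => by
      obtain ⟨a, ha⟩ := B.res_surjective (D b / D x)
      refine ⟨a, ?_⟩
      rw [map_sub, derivation_smul_res hB, hres x hx, zero_mul, add_zero, ha, div_mul_cancel₀ _ hDx, sub_self]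
    have hres' : ∀ a b, B.res (b - a * x) = B.res b := fun a b => by
      rw [map_sub, map_mul, hres x hx, mul_zero, sub_zero]
    have hi : ∀ b c, D b = 0 → B.res b = c → φ b = i c := fun b c h1 h2 =>
      TrivSqZeroExt.ext ((Art.res_app φ b).trans (h2.trans (TrivSqZeroExt.fst_inl k c).symm))
        ((hφ b).trans (h1.trans (TrivSqZeroExt.snd_inl k c).symm))
    obtain ⟨C, p', p'', hC⟩ := exists_fibreProd_of_residue φ i fun c => by
      obtain ⟨b, hb⟩ := B.res_surjective c
      obtain ⟨a, ha⟩ := hfix b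
      exact ⟨b - a * x, c, hi _ _ ha ((hres' a b).trans hb), (hres' a b).trans hb⟩
    have hsurj : Function.Surjective (p' ≫ f) := fun z => by
      obtain ⟨b, rfl⟩ := hf z
      obtain ⟨a, ha⟩ := hfix b
      obtain ⟨c, hc, -⟩ := hC.surj (b - a * x) (B.res b) (hi _ _ ha (hres' a b))
      refine ⟨c, (congrArg f.toAlgHom hc).trans ?_⟩
      rw [map_sub, map_mul]
      erw [hx]
      rw [mul_zero, sub_zero]
    obtain ⟨c, hc⟩ := he.2 C p' hsurj x
    refine hDx ?_
    rw [← hc, ← hφ]
    exact (congrArg (fun z : TrivSqZeroExt k k => z.snd) (hC.w_apply c)).trans (TrivSqZeroExt.snd_inl k _)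
  · intro h
    refine ⟨hf, fun C g hg => ?_⟩
    by_contra hgn
    obtain ⟨D, hD, hDg⟩ := exists_derivation_of_not_surjective g hB hgn
    refine hD (Derivation.ext fun b => ?_)
    obtain ⟨c, hc⟩ := hg (f b)
    have := h D (b - g c) (by
      show f.toAlgHom (b - g c) = 0
      rw [map_sub, sub_eq_zero]; exact hc.symm)
    rwa [map_sub, hDg, sub_zero] at this

/-- with a separable residue extension the kernel of an essential surjection lies in the relative
square -/
theorem ker_le_relSq_of_isEssential [IsNoetherianRing Λ] [Module.Finite Λ k]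
    [Algebra.IsSeparable (↥(algebraMap Λ k).range) k] {A B : Art Λ k} {f : B ⟶ A} (he : IsEssential f) :
    RingHom.ker f.toAlgHom ≤ relSq B := by
  intro x hx
  by_contra hxN
  obtain ⟨J, ⟨hNJ, hJm, hxJ⟩, hmax⟩ :=
    WellFounded.has_min (r := ((· > ·) : Ideal B → Ideal B → Prop)) wellFounded_gt
      {J | relSq B ≤ J ∧ J ≤ maximalIdeal B ∧ x ∉ J} ⟨_, le_rfl, relSq_le B, hxN⟩
  have hxm : x ∈ maximalIdeal B := ker_le_max f hx
  have hgen : ∀ y ∈ maximalIdeal B, ∃ a, y - a * x ∈ J := fun y hy => by
    have hlt : ¬ (x ∉ J ⊔ Ideal.span {y}) ∨ y ∈ J := by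
      by_contra hc
      push Not at hc
      exact hmax _ ⟨hNJ.trans le_sup_left, sup_le hJm ((Ideal.span_singleton_le_iff_mem _).2 hy), hc.1⟩
        (lt_of_le_of_ne le_sup_left fun e => hc.2 (e ▸ Ideal.mem_sup_right (Ideal.mem_span_singleton_self y)))
    rcases hlt with hlt | hlt
    · obtain ⟨j, hj, w, hw, e⟩ := Submodule.mem_sup.1 (not_not.1 hlt)
      obtain ⟨c, rfl⟩ := Ideal.mem_span_singleton'.1 hw
      by_cases hc : c ∈ maximalIdeal B
      · exfalso
        refine hxJ (e ▸ add_mem hj (hNJ (Ideal.mem_sup_right ?_)))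
        rw [pow_two]
        exact Ideal.mul_mem_mul hc hy
      · obtain ⟨u, rfl⟩ := IsLocalRing.notMem_maximalIdeal.1 hc
        refine ⟨↑u⁻¹, ?_⟩
        have h2 : y - ↑u⁻¹ * x = -(↑u⁻¹ * j) := by
          rw [← e, mul_add, ← mul_assoc, Units.inv_mul, one_mul]; ring
        rw [h2]
        exact neg_mem (Ideal.mul_mem_left _ _ hj)
    · exact ⟨0, by rwa [zero_mul, sub_zero]⟩
  have hdom : IsDomain ↥(algebraMap Λ k).range := inferInstance
  have hfin : Module.Finite ↥(algebraMap Λ k).range k := by
    let : Algebra Λ ↥(algebraMap Λ k).range := (algebraMap Λ k).rangeRestrict.toAlgebra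
    have : IsScalarTower Λ ↥(algebraMap Λ k).range k := IsScalarTower.of_algebraMap_eq fun _ => rfl
    exact Module.Finite.of_restrictScalars_finite Λ _ _
  let : Field ↥(algebraMap Λ k).range := (isField_of_isIntegral_of_isField
    (R := ↥(algebraMap Λ k).range) (S := k) Subtype.val_injective (Field.toIsField k)).toField
  have : Algebra.FormallyEtale ↥(algebraMap Λ k).range k := Algebra.FormallyEtale.of_isSeparable _ _
  let E := Art.quot B J hJm
  have hker : RingHom.ker (algebraMap Λ k) ≤ RingHom.ker (algebraMap Λ E) := fun l hl =>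
    Ideal.Quotient.eq_zero_iff_mem.2 (hNJ (Ideal.mem_sup_left (Ideal.mem_map_of_mem _ hl)))
  have hker' : RingHom.ker (algebraMap Λ k).rangeRestrict ≤ RingHom.ker (algebraMap Λ E) := by
    rw [RingHom.ker_rangeRestrict]; exact hker
  let k₀E : ↥(algebraMap Λ k).range →+* E :=
    (algebraMap Λ k).rangeRestrict.liftOfSurjective (algebraMap Λ k).rangeRestrict_surjective
      ⟨algebraMap Λ E, hker'⟩
  have hk₀E : ∀ l, k₀E ((algebraMap Λ k).rangeRestrict l) = algebraMap Λ E l := fun l =>
    RingHom.liftOfSurjective_comp_apply _ _ _ _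
  let : Algebra ↥(algebraMap Λ k).range E := k₀E.toAlgebra
  let resE : E →ₐ[↥(algebraMap Λ k).range] k :=
    { toRingHom := E.res
      commutes' := fun c => by
        obtain ⟨l, rfl⟩ := (algebraMap Λ k).rangeRestrict_surjective c
        show E.res (k₀E _) = _
        rw [hk₀E, AlgHom.commutes]
        rfl }
  have hnil : IsNilpotent (RingHom.ker resE) := by
    obtain ⟨N, hN⟩ := maximalIdeal_nilpotent E
    refine ⟨N, ?_⟩
    rw [show RingHom.ker resE = maximalIdeal E from
      IsLocalRing.eq_maximalIdeal (RingHom.ker_isMaximal_of_surjective (E.res : E →+* k) E.res_surjective)]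
    exact hN
  obtain ⟨σ, hσ⟩ : ∃ σ : k →ₐ[↥(algebraMap Λ k).range] E, ∀ c, E.res (σ c) = c :=
    ⟨Algebra.FormallySmooth.liftOfSurjective (AlgHom.id _ k) resE E.res_surjective hnil,
      fun c => Algebra.FormallySmooth.liftOfSurjective_apply (AlgHom.id _ k) resE E.res_surjective hnil c⟩
  let i : Art.base Λ k ⟶ E :=
    ⟨({ toRingHom := σ.toRingHom
        commutes' := fun l => (σ.commutes ((algebraMap Λ k).rangeRestrict l)).trans (hk₀E l) } :
        k →ₐ[Λ] E), AlgHom.ext hσ⟩
  let q := Art.quotMk B J hJm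
  have hfix : ∀ b : B, ∃ a, q (b - a * x) = i (B.res b) := fun b => by
    obtain ⟨s, hs⟩ := Ideal.Quotient.mk_surjective (show B ⧸ J from i (B.res b))
    have hsm : b - s ∈ maximalIdeal B := by
      rw [mem_max_iff_of_surjective (B.res : B →+* k) B.res_surjective, RingHom.coe_coe, map_sub,
        sub_eq_zero]
      exact ((hσ (B.res b)).symm.trans (congrArg E.res hs.symm)).trans rfl
    obtain ⟨a, ha⟩ := hgen _ hsm
    refine ⟨a, Eq.trans ?_ hs⟩
    refine Ideal.Quotient.eq.2 ?_
    rwa [show b - a * x - s = b - s - a * x by ring]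
  have hres' : ∀ a b, B.res (b - a * x) = B.res b := fun a b => by
    rw [map_sub, map_mul, show B.res x = 0 from
      (mem_max_iff_of_surjective (B.res : B →+* k) B.res_surjective).1 hxm, mul_zero, sub_zero]
  obtain ⟨C, p', p'', hC⟩ := exists_fibreProd_of_residue q i fun c => by
    obtain ⟨b, hb⟩ := B.res_surjective c
    obtain ⟨a, ha⟩ := hfix b
    exact ⟨b - a * x, c, ha.trans (by rw [hb]), (hres' a b).trans hb⟩
  have hsurj : Function.Surjective (p' ≫ f) := fun z => by
    obtain ⟨b, rfl⟩ := he.1 z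
    obtain ⟨a, ha⟩ := hfix b
    obtain ⟨c, hc, -⟩ := hC.surj (b - a * x) (B.res b) ha
    refine ⟨c, (congrArg f.toAlgHom hc).trans ?_⟩
    rw [map_sub, map_mul]
    erw [RingHom.mem_ker.1 hx]
    rw [mul_zero, sub_zero]
  obtain ⟨c, hc⟩ := he.2 C p' hsurj x
  have h1 : q x = i (p'' c) := hc ▸ hC.w_apply c
  have h2 : (show k from p'' c) = 0 := by
    have h4 := congrArg E.res h1
    have h5 : E.res (q x) = 0 := (Art.res_app q x).trans
      ((mem_max_iff_of_surjective (B.res : B →+* k) B.res_surjective).1 hxm)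
    exact (hσ _).symm.trans (h4.symm.trans h5)
  have h3 : q x = 0 := h1.trans ((congrArg i.toAlgHom h2).trans (map_zero _))
  exact hxJ (Ideal.Quotient.eq_zero_iff_mem.1 h3)

end Groth.Agent.ArtFunLib
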