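import Groth.Agent.ArtFunLib.Tangent
import Groth.Prelude.Def_ArtFun5
import Mathlib.RingTheory.AdicCompletion.RingHom

/-!
# Truncations of coefficient rings and formal elements
-/

universe u v

open CategoryTheory IsLocalRing ArtFun

namespace Groth.Agent.ArtFunLib

variable {Λ : Type u} {k : Type u} [CommRing Λ] [Field k] [Algebra Λ k]

theorem HomSet.map_map {R : Type u} [CommRing R] [Algebra Λ R] {resR : R →ₐ[Λ] k} {A B C : Art Λ k}
    (f : A ⟶ B) (g : B ⟶ C) (φ : HomSet R resR A) :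
    HomSet.map g (HomSet.map f φ) = HomSet.map (f ≫ g) φ := Subtype.ext (AlgHom.ext fun _ => rfl)

theorem HomSet.map_id {R : Type u} [CommRing R] [Algebra Λ R] {resR : R →ₐ[Λ] k} {A : Art Λ k}
    (φ : HomSet R resR A) : HomSet.map (𝟙 A) φ = φ := Subtype.ext (AlgHom.ext fun _ => rfl)

theorem HomSet.base_eq {R : Type u} [CommRing R] [Algebra Λ R] {resR : R →ₐ[Λ] k}
    (φ ψ : HomSet R resR (Art.base Λ k)) : φ = ψ :=
  Subtype.ext ((AlgHom.id_comp _).symm.trans ((φ.2.trans ψ.2.symm).trans (AlgHom.id_comp _)))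

theorem HomSet.exists_lift {R : Type u} [CommRing R] [Algebra Λ R] {resR : R →ₐ[Λ] k}
    {B A A' A'' : Art Λ k} {p' : B ⟶ A'} {p'' : B ⟶ A''} {f' : A' ⟶ A} {f'' : A'' ⟶ A}
    (h : Art.IsFibreProd p' p'' f' f'') (φ' : HomSet R resR A') (φ'' : HomSet R resR A'')
    (e : HomSet.map f' φ' = HomSet.map f'' φ'') :
    ∃ φ : HomSet R resR B, HomSet.map p' φ = φ' ∧ HomSet.map p'' φ = φ'' := by
  have he : ∀ r, f' (φ'.1 r) = f'' (φ''.1 r) := fun r => congrArg (fun ψ => ψ.1 r) e
  choose b hb hb' using fun r => h.surj _ _ (he r)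
  let g : R →ₐ[Λ] B :=
    { toFun := b
      map_one' := h.inj _ _ (by simp [hb]) (by simp [hb'])
      map_mul' := fun x y => h.inj _ _ (by simp [hb]) (by simp [hb'])
      map_zero' := h.inj _ _ (by simp [hb]) (by simp [hb'])
      map_add' := fun x y => h.inj _ _ (by simp [hb]) (by simp [hb'])
      commutes' := fun r => h.inj _ _ (by simp [hb]) (by simp [hb']) }
  refine ⟨⟨g, AlgHom.ext fun r => ?_⟩, Subtype.ext (AlgHom.ext hb), Subtype.ext (AlgHom.ext hb')⟩
  change B.res (b r) = resR r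
  rw [← Art.res_app p' (b r), hb]
  exact congrArg (fun ψ : R →ₐ[Λ] k => ψ r) φ'.2

variable (S : CRing Λ k)

theorem truncHom_surjective (n : ℕ) : Function.Surjective (S.truncHom n).1 := Ideal.Quotient.mk_surjective

theorem truncHom_eq_zero_iff (n : ℕ) (a : S.carrier) :
    (S.truncHom n).1 a = 0 ↔ a ∈ CRing.mpow S n := Ideal.Quotient.eq_zero_iff_mem

theorem truncHom_eq_iff (n : ℕ) (a b : S.carrier) :
    (S.truncHom n).1 a = (S.truncHom n).1 b ↔ a - b ∈ CRing.mpow S n := Ideal.Quotient.eq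

theorem truncMap_surjective (n : ℕ) : Function.Surjective (S.truncMap n) := fun z => by
  obtain ⟨a, rfl⟩ := truncHom_surjective S n z
  exact ⟨(S.truncHom (n + 1)).1 a, rfl⟩

theorem truncMap_apply (n : ℕ) (a : S.carrier) :
    S.truncMap n ((S.truncHom (n + 1)).1 a) = (S.truncHom n).1 a := rfl

theorem res_truncHom (n : ℕ) (a : S.carrier) : (S.trunc n).res ((S.truncHom n).1 a) = S.res a := rfl

theorem bijective_trunc_zero : Function.Bijective (Art.toBase (S.trunc 0)) := by
  refine ⟨fun x y e => ?_, (S.trunc 0).res_surjective⟩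
  obtain ⟨a, rfl⟩ := truncHom_surjective S 0 x
  obtain ⟨b, rfl⟩ := truncHom_surjective S 0 y
  rw [truncHom_eq_iff, show CRing.mpow S 0 = maximalIdeal S.carrier from pow_one _,
    CRing.mem_maximalIdeal_iff, map_sub, sub_eq_zero]
  exact e

theorem hausdorff_ext {a b : S.carrier} (h : ∀ n, (S.truncHom n).1 a = (S.truncHom n).1 b) : a = b := by
  have := S.isAdicComplete
  rw [← sub_eq_zero]
  refine IsHausdorff.haus (I := maximalIdeal S.carrier) inferInstance _ fun n => ?_
  rw [SModEq.zero, smul_eq_mul, Ideal.mul_top]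
  exact Ideal.pow_le_pow_right (Nat.le_succ n) ((truncHom_eq_iff S n a b).1 (h n))

theorem hom_ext_trunc {R : Type u} [CommRing R] [Algebra Λ R] {g g' : R →ₐ[Λ] S.carrier}
    (h : ∀ n, (S.truncHom n).1.comp g = (S.truncHom n).1.comp g') : g = g' :=
  AlgHom.ext fun r => hausdorff_ext S fun n => congrArg (fun φ => φ r) (h n)

/-- Universal property of a coefficient ring as a limit of its truncations. -/
theorem exists_hom_of_compat {R : Type u} [CommRing R] [Algebra Λ R] {resR : R →ₐ[Λ] k}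
    (φ : ∀ n, HomSet R resR (S.trunc n)) (hφ : ∀ n, HomSet.map (S.truncMap n) (φ (n + 1)) = φ n) :
    ∃ g : R →ₐ[Λ] S.carrier, S.res.comp g = resR ∧ ∀ n, (S.truncHom n).1.comp g = (φ n).1 := by
  have := S.isAdicComplete
  choose a ha using fun n r => truncHom_surjective S n ((φ n).1 r)
  have hstep : ∀ n r, a (n + 1) r - a n r ∈ CRing.mpow S n := fun n r => by
    rw [← truncHom_eq_iff, ← truncMap_apply, ha, ha]
    exact congrArg (fun ψ => ψ.1 r) (hφ n)
  have hle : ∀ m n, m ≤ n → ∀ r, a n r - a m r ∈ CRing.mpow S m := by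
    intro m n hmn r
    induction n, hmn using Nat.le_induction with
    | base => rw [sub_self]; exact zero_mem _
    | succ n hmn ih =>
      rw [← sub_add_sub_cancel (a (n + 1) r) (a n r) (a m r)]
      exact add_mem (Ideal.pow_le_pow_right (Nat.succ_le_succ hmn) (hstep n r)) ih
  have hlim : ∀ r, ∃ s, ∀ n, (S.truncHom n).1 s = (φ n).1 r := fun r => by
    obtain ⟨L, hL⟩ := IsPrecomplete.prec (I := maximalIdeal S.carrier) inferInstance
      (f := fun n => a n r) (fun {m n} hmn => by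
        rw [SModEq.sub_mem, smul_eq_mul, Ideal.mul_top, ← neg_sub]
        exact neg_mem (Ideal.pow_le_pow_right (Nat.le_succ m) (hle m n hmn r)))
    refine ⟨L, fun n => ?_⟩
    rw [← ha, truncHom_eq_iff, ← sub_add_sub_cancel L (a (n + 1) r) (a n r)]
    refine add_mem ?_ (hstep n r)
    have := hL (n + 1)
    rw [SModEq.sub_mem, smul_eq_mul, Ideal.mul_top] at this
    rw [← neg_sub]
    exact neg_mem this
  choose s hs using hlim
  let g : R →ₐ[Λ] S.carrier :=
    { toFun := s
      map_one' := hausdorff_ext S fun n => by rw [hs, map_one, map_one]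
      map_mul' := fun x y => hausdorff_ext S fun n => by rw [hs, map_mul, map_mul, hs, hs]
      map_zero' := hausdorff_ext S fun n => by rw [hs, map_zero, map_zero]
      map_add' := fun x y => hausdorff_ext S fun n => by rw [hs, map_add, map_add, hs, hs]
      commutes' := fun r => hausdorff_ext S fun n => by rw [hs, AlgHom.commutes, AlgHom.commutes] }
  refine ⟨g, AlgHom.ext fun r => ?_, fun n => AlgHom.ext fun r => hs r n⟩
  change S.res (s r) = resR r
  rw [← res_truncHom S 0, hs]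
  exact congrArg (fun ψ : R →ₐ[Λ] k => ψ r) (φ 0).2

theorem truncHom_comp {n : ℕ} {R : Type u} [CommRing R] [Algebra Λ R] {resR : R →ₐ[Λ] k}
    {g : R →ₐ[Λ] S.carrier} (hg : S.res.comp g = resR) {φ : HomSet R resR (S.trunc n)}
    (h : (S.truncHom n).1.comp g = φ.1) {F : Art Λ k ⥤ Type v} (ξ : Family R resR F) :
    (ξ.along g hg).app (S.trunc n) (S.truncHom n) = ξ.app (S.trunc n) φ :=
  congrArg (ξ.app (S.trunc n)) (Subtype.ext h)

/-- A map to an object factors through a truncation. -/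
theorem exists_factor {A : Art Λ k} (u : HomSet S.carrier S.res A) :
    ∃ (n : ℕ) (g : S.trunc n ⟶ A), HomSet.map g (S.truncHom n) = u := by
  obtain ⟨N, hN⟩ := maximalIdeal_nilpotent A
  have hu : ∀ a, A.res (u.1 a) = S.res a := fun a => congrArg (fun ψ => ψ a) u.2
  have hker : ∀ a ∈ CRing.mpow S N, u.1 a = 0 := fun a ha => by
    have hle : Ideal.map u.1 (maximalIdeal S.carrier) ≤ maximalIdeal A :=
      Ideal.map_le_iff_le_comap.2 fun b hb => by
        rw [CRing.mem_maximalIdeal_iff] at hb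
        rw [Ideal.mem_comap, Art.mem_maximalIdeal_iff, hu, hb]
    have hma : u.1 a ∈ Ideal.map u.1 (maximalIdeal S.carrier ^ (N + 1)) := Ideal.mem_map_of_mem _ ha
    rw [Ideal.map_pow] at hma
    have := Ideal.pow_right_mono hle _ hma
    rw [pow_succ, hN, Ideal.bot_mul] at this
    exact this
  refine ⟨N, ⟨Ideal.Quotient.liftₐ _ u.1 hker, AlgHom.ext fun x => ?_⟩,
    Subtype.ext (AlgHom.ext fun _ => rfl)⟩
  obtain ⟨a, rfl⟩ := truncHom_surjective S N x
  exact hu a

/-- Formal elements lift along versal families. -/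
theorem exists_along_eq {R : Type u} [CommRing R] [Algebra Λ R] {resR : R →ₐ[Λ] k}
    {F : Art Λ k ⥤ Type v} (ξ : Family R resR F) (hξ : IsVersal ξ)
    (hb : Function.Surjective (ξ.app (Art.base Λ k))) (η : FormalElt F S) :
    ∃ (g : R →ₐ[Λ] S.carrier) (hg : S.res.comp g = resR),
      ∀ n, (ξ.along g hg).app (S.trunc n) (S.truncHom n) = η.elt n := by
  have := isIso_of_bijective _ (bijective_trunc_zero S)
  obtain ⟨φb, hφb⟩ := hb (F.map (Art.toBase _) (η.elt 0))
  have h0 : ξ.app _ (HomSet.map (inv (Art.toBase (S.trunc 0))) φb) = η.elt 0 := by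
    rw [ξ.natural, hφb, map_inv_map]
  let T := fun n => {φ : HomSet R resR (S.trunc n) // ξ.app _ φ = η.elt n}
  have hstep : ∀ n (φ : T n), ∃ ψ : T (n + 1), HomSet.map (S.truncMap n) ψ.1 = φ.1 := fun n φ => by
    obtain ⟨ψ, h₁, h₂⟩ := hξ (S.truncMap n) (truncMap_surjective S n) φ.1 (η.elt (n + 1))
      (by rw [η.compat, φ.2])
    exact ⟨⟨ψ, h₂⟩, h₁⟩
  choose next hnext using hstep
  let seq : ∀ n, T n := fun n => Nat.rec ⟨_, h0⟩ next n
  obtain ⟨g, hg, hgn⟩ := exists_hom_of_compat S (fun n => (seq n).1) (fun n => hnext n (seq n))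
  exact ⟨g, hg, fun n => (truncHom_comp S hg (hgn n) ξ).trans (seq n).2⟩

/-- A family over a coefficient ring is determined by its formal element. -/
theorem family_ext {F : Art Λ k ⥤ Type v} {ξ ξ' : Family S.carrier S.res F}
    (h : ∀ n, ξ.app (S.trunc n) (S.truncHom n) = ξ'.app (S.trunc n) (S.truncHom n))
    (A : Art Λ k) (u : HomSet S.carrier S.res A) : ξ.app A u = ξ'.app A u := by
  obtain ⟨n, g, rfl⟩ := exists_factor S u
  rw [ξ.natural, ξ'.natural, h]

theorem versal_surjective {R : Type u} [CommRing R] [Algebra Λ R] {resR : R →ₐ[Λ] k}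
    {F : Art Λ k ⥤ Type v} {ξ : Family R resR F} (hξ : IsVersal ξ)
    (hb : Function.Surjective (ξ.app (Art.base Λ k))) (A : Art Λ k) : Function.Surjective (ξ.app A) := by
  intro y
  obtain ⟨φ, hφ⟩ := hb (F.map (Art.toBase A) y)
  obtain ⟨ψ, -, hψ⟩ := hξ (Art.toBase A) A.res_surjective φ y hφ.symm
  exact ⟨ψ, hψ⟩

theorem versal_s1 {R : Type u} [CommRing R] [Algebra Λ R] {resR : R →ₐ[Λ] k}
    {F : Art Λ k ⥤ Type v} {ξ : Family R resR F} (hξ : IsVersal ξ)
    (hs : ∀ A, Function.Surjective (ξ.app A)) : S1 F := by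
  intro B A A' A'' p' p'' f' f'' h hf
  refine (cmp_surjective_iff h).2 fun x' x'' e => ?_
  obtain ⟨φ', rfl⟩ := hs A' x'
  obtain ⟨φ'', hφ'', rfl⟩ := hξ f'' hf (HomSet.map f' φ') x'' (by rw [ξ.natural, e])
  obtain ⟨φ, h₁, h₂⟩ := HomSet.exists_lift h φ' φ'' hφ''.symm
  exact ⟨ξ.app B φ, by rw [← ξ.natural, h₁], by rw [← ξ.natural, h₂]⟩

theorem versal_heps {R : Type u} [CommRing R] [Algebra Λ R] {resR : R →ₐ[Λ] k}
    {F : Art Λ k ⥤ Type v} {ξ : Family R resR F} (hξ : IsMiniversal ξ)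
    (hs : ∀ A, Function.Surjective (ξ.app A)) : Heps F := by
  intro B A' p' p'' h
  refine ⟨(cmp_injective_iff h).2 fun z z' e e' => ?_,
    versal_s1 hξ.1 hs _ _ _ _ h (Art.dual Λ k).res_surjective⟩
  obtain ⟨ψ, rfl⟩ := hs B z
  have hp : Function.Surjective p' :=
    IsFibreProd.surjective_fst h (Art.dual Λ k).res_surjective
  obtain ⟨ψ', h₁, rfl⟩ := hξ.1 p' hp (HomSet.map p' ψ) z' (by rw [ξ.natural, e])
  have h₂ : HomSet.map p'' ψ = HomSet.map p'' ψ' := hξ.2.1 (by rw [ξ.natural, ξ.natural, e'])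
  refine congrArg _ (Subtype.ext (AlgHom.ext fun r => h.inj _ _ ?_ ?_))
  · exact (congrArg (fun φ => φ.1 r) h₁).symm
  · exact congrArg (fun φ => φ.1 r) h₂

end Groth.Agent.ArtFunLib
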