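import Groth.Agent.ArtFunLib.Formal
import Groth.Agent.ArtFunLib.Functor
import Groth.Prelude.Def_CAlgX

/-!
Smoothness of the functor of a coefficient ring and adic formal smoothness.
-/

universe u v

open IsLocalRing CategoryTheory ArtFun

namespace Groth.Agent.ArtFunLib

variable {Λ : Type u} {k : Type u} [CommRing Λ] [Field k] [Algebra Λ k]

/-- maps out of a coefficient ring kill a power of the maximal ideal -/
theorem exists_pow_ker {R : CRing Λ k} {A : Art Λ k} (φ : HomSet R.carrier R.res A) :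
    ∃ N, ∀ x ∈ maximalIdeal R.carrier ^ N, φ.1 x = 0 := by
  obtain ⟨n, g, rfl⟩ := exists_factor R φ
  refine ⟨n + 1, fun x hx => ?_⟩
  show g ((R.truncHom n).1 x) = 0
  rw [(truncHom_eq_zero_iff R n x).2 hx, map_zero]

/-- an adically formally smooth coefficient ring has a smooth functor -/
theorem isSmoothFunctor_hR_of_formallySmooth [IsNoetherianRing Λ] [Module.Finite Λ k]
    (R : CRing Λ k) (h : CAlgX.IsAdicFormallySmooth Λ R.carrier (maximalIdeal R.carrier)) :
    IsSmoothFunctor (hR R.carrier R.res) := by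
  intro B A μ hμ
  refine surj_induction (fun A B (μ : B ⟶ A) =>
    Function.Surjective ((hR R.carrier R.res).map μ)) ?_ ?_ ?_ μ hμ
  · intro A B e he φ
    exact ⟨_, map_map_inv (hR R.carrier R.res) e φ⟩
  · intro A B p hp φ
    let J : Ideal B := RingHom.ker p.toAlgHom
    have hJ : J ^ 2 = ⊥ := by
      rw [pow_two, eq_bot_iff, Ideal.mul_le]
      intro x hx y hy
      exact (Ideal.mem_bot).2 (mul_eq_zero_of_semismall hp.isSemismallExt
        (ker_le_max p hx) (RingHom.mem_ker.1 hy))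
    let e : (B ⧸ J) ≃ₐ[Λ] A := Ideal.quotientKerAlgEquivOfSurjective hp.1
    obtain ⟨N, hN⟩ := exists_pow_ker φ
    obtain ⟨χ, hχ⟩ := h B J hJ (e.symm.toAlgHom.comp φ.1) ⟨N, fun x hx => by
      show e.symm (φ.1 x) = 0
      rw [hN x hx, map_zero]⟩
    have hpχ : p.toAlgHom.comp χ = φ.1 := AlgHom.ext fun r => by
      have h1 := congrArg e (AlgHom.congr_fun hχ r)
      exact h1.trans (e.apply_symm_apply _)
    refine ⟨⟨χ, ?_⟩, Subtype.ext hpχ⟩
    rw [← p.res_comp, AlgHom.comp_assoc, hpχ]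
    exact φ.2
  · intro A B C p q _ _ hp hq φ
    obtain ⟨ψ, rfl⟩ := hq φ
    obtain ⟨ω, rfl⟩ := hp ψ
    exact ⟨ω, (map_map (hR R.carrier R.res) p q ω).symm⟩

/-- a coefficient ring with smooth functor is adically formally smooth -/
theorem formallySmooth_of_isSmoothFunctor_hR [IsNoetherianRing Λ] [Module.Finite Λ k]
    (R : CRing Λ k) (h : IsSmoothFunctor (hR R.carrier R.res)) :
    CAlgX.IsAdicFormallySmooth Λ R.carrier (maximalIdeal R.carrier) := by
  classical
  intro A _ _ J hJ ψ hψ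
  obtain ⟨N, hN⟩ := hψ
  let T : Art Λ k := R.trunc N
  let ψN : T →ₐ[Λ] A ⧸ J := Ideal.Quotient.liftₐ (CRing.mpow R N) ψ
    (fun x hx => hN x (Ideal.pow_le_pow_right (Nat.le_succ N) hx))
  let P := AlgHom.pullback (Ideal.Quotient.mkₐ Λ J) ψN
  let pr₁ : P →ₐ[Λ] A := AlgHom.pullbackFst _ _
  let pr₂ : P →ₐ[Λ] T := AlgHom.pullbackSnd _ _
  have := (finiteLength T).1
  obtain ⟨s, hs⟩ := Module.Finite.fg_top (R := Λ) (M := T)
  have hlift : ∀ r : T, ∃ p : P, pr₂ p = r := fun r => by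
    obtain ⟨a, ha⟩ := Ideal.Quotient.mk_surjective (ψN r)
    exact ⟨⟨(a, r), ha⟩, rfl⟩
  choose σ hσ using hlift
  let t : Finset P := s.image σ
  have hint : ∀ p : P, IsIntegral Λ p := fun p => by
    obtain ⟨f, hf, hf0⟩ := IsIntegral.of_finite Λ (pr₂ p)
    refine ⟨f * f, hf.mul hf, ?_⟩
    rw [← Polynomial.aeval_def, map_mul]
    have h2 : pr₂ (Polynomial.aeval p f) = 0 := by
      rw [← Polynomial.aeval_algHom_apply]; exact hf0
    refine Subtype.ext (Prod.ext ?_ ?_)
    · show (Polynomial.aeval p f).1.1 * (Polynomial.aeval p f).1.1 = 0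
      have hmem : (Polynomial.aeval p f).1.1 ∈ J := Ideal.Quotient.eq_zero_iff_mem.1
        ((Polynomial.aeval p f).2.trans ((congrArg ψN h2).trans (map_zero ψN)))
      have : _ ∈ J ^ 2 := pow_two J ▸ Ideal.mul_mem_mul hmem hmem
      rwa [hJ, Ideal.mem_bot] at this
    · show (Polynomial.aeval p f).1.2 * (Polynomial.aeval p f).1.2 = 0
      rw [show (Polynomial.aeval p f).1.2 = 0 from h2, mul_zero]
  let B₀ : Subalgebra Λ P := Algebra.adjoin Λ (t : Set P)
  have : Module.Finite Λ B₀ :=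
    Module.Finite.iff_fg.2 (fg_adjoin_of_finite t.finite_toSet fun p _ => hint p)
  have : IsNoetherianRing B₀ := isNoetherian_of_tower Λ (isNoetherian_of_isNoetherianRing_of_finite Λ B₀)
  let π : B₀ →ₐ[Λ] T := pr₂.comp B₀.val
  have hπ : Function.Surjective π := fun r => by
    have hr : r ∈ Submodule.span Λ (s : Set T) := by rw [hs]; trivial
    induction hr using Submodule.span_induction with
    | mem x hx => exact ⟨⟨σ x, Algebra.subset_adjoin (Finset.mem_image_of_mem _ hx)⟩, hσ x⟩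
    | zero => exact ⟨0, map_zero π⟩
    | add x y _ _ hx hy =>
      obtain ⟨a, rfl⟩ := hx
      obtain ⟨b, rfl⟩ := hy
      exact ⟨a + b, map_add π a b⟩
    | smul c x _ hx =>
      obtain ⟨a, rfl⟩ := hx
      exact ⟨c • a, map_smul π c a⟩
  let resB : B₀ →ₐ[Λ] k := T.res.comp π
  have hresB : Function.Surjective resB := T.res_surjective.comp hπ
  have hmax : (RingHom.ker (resB : B₀ →+* k)).IsMaximal :=
    RingHom.ker_isMaximal_of_surjective (resB : B₀ →+* k) hresB
  have hprime : ∀ I : Ideal B₀, I.IsPrime → I = RingHom.ker (resB : B₀ →+* k) := fun I hI => by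
    refine (hmax.eq_of_le hI.ne_top fun x hx => ?_).symm
    have hx' : π x ∈ maximalIdeal T := (T.mem_maximalIdeal_iff _).2 hx
    obtain ⟨M, hM⟩ := maximalIdeal_nilpotent T
    have h1 : π (x ^ M) = 0 := by
      have h3 : π x ^ M ∈ maximalIdeal T ^ M := Ideal.pow_mem_pow hx' M
      rw [hM, Ideal.mem_bot] at h3
      rw [map_pow, h3]
    refine hI.mem_of_pow_mem (M * 2) ?_
    rw [pow_mul]
    have : (x ^ M) ^ 2 = 0 := by
      refine Subtype.ext (Subtype.ext (Prod.ext ?_ ?_))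
      · show ((x ^ M : B₀) : P).1.1 ^ 2 = 0
        have hmem : ((x ^ M : B₀) : P).1.1 ∈ J := Ideal.Quotient.eq_zero_iff_mem.1
          (((x ^ M : B₀) : P).2.trans ((congrArg ψN h1).trans (map_zero ψN)))
        have h4 := Ideal.pow_mem_pow hmem 2
        rwa [hJ, Ideal.mem_bot] at h4
      · show ((x ^ M : B₀) : P).1.2 ^ 2 = 0
        rw [show ((x ^ M : B₀) : P).1.2 = 0 from h1, zero_pow two_ne_zero]
    rw [this]
    exact I.zero_mem
  have : IsLocalRing B₀ := IsLocalRing.of_unique_max_ideal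
    ⟨_, hmax, fun I hI => hprime I hI.isPrime⟩
  have : Ring.KrullDimLE 0 B₀ :=
    Ring.KrullDimLE.mk₀ fun I hI => by rw [hprime I hI]; exact hmax
  have : IsArtinianRing B₀ :=
    (isArtinianRing_iff_isNoetherianRing_krullDimLE_zero (R := B₀)).2 ⟨‹_›, ‹_›⟩
  let μ : Art.of B₀ resB hresB ⟶ T := ⟨π, rfl⟩
  obtain ⟨φ, hφ⟩ := h μ hπ (R.truncHom N)
  let φB : R.carrier →ₐ[Λ] B₀ := φ.1
  refine ⟨pr₁.comp (B₀.val.comp φB), AlgHom.ext fun r => ?_⟩
  show Ideal.Quotient.mk J ((φB r : B₀) : P).1.1 = ψ r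
  refine ((φB r : B₀) : P).2.trans ?_
  have h2 : π (φB r) = (R.truncHom N).1 r :=
    AlgHom.congr_fun (congrArg Subtype.val hφ) r
  exact congrArg ψN h2

end Groth.Agent.ArtFunLib
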