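import Groth.Agent.ArtFunLib.Retract
import Groth.Agent.ArtFunLib.Essential

/-!
Minimal versal families: existence inside a versal family, power series structure, and miniversality.
-/

universe u v

open IsLocalRing CategoryTheory ArtFun

namespace Groth.Agent.ArtFunLib

variable {Λ : Type u} {k : Type u} [CommRing Λ] [Field k] [Algebra Λ k] {F : Art Λ k ⥤ Type v}

theorem base_surjective (h0 : H0 F) (R : CRing Λ k) (ξ : Family R.carrier R.res F) :
    Function.Surjective (ξ.app (Art.base Λ k)) := fun _ =>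
  ⟨⟨R.res, AlgHom.id_comp _⟩, @Subsingleton.elim _ h0.2 _ _⟩

theorem isMinimalVersal_of_fixes (h0 : H0 F) {R : CRing Λ k} {ξ : Family R.carrier R.res F}
    (hξ : IsVersal ξ) (h : ∀ g, Fixes ξ g → Function.Surjective g) : ξ.IsMinimalVersal := by
  refine ⟨hξ, fun R' u f hf hu => ?_⟩
  obtain ⟨g, hg, hgu⟩ := exists_along_eq R' ξ hξ (base_surjective h0 R ξ) u
  have h1 : R.res.comp (f.comp g) = R.res := by rw [← AlgHom.comp_assoc, hf, hg]
  exact Function.Surjective.of_comp (g := g) (h _ ((fixes_iff h1).2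
    ((push_eq_along ξ g hg f hf u hgu).trans hu)))

variable {R : CRing Λ k} {ξ : Family R.carrier R.res F}

theorem exists_powerSeries_of_retract (hξ : IsVersal ξ) (T : Retract ξ) :
    ∃ (n : ℕ) (Φ : (psRing T.ring n).carrier →ₐ[Λ] R.carrier),
      Function.Bijective Φ ∧ ∀ a, Φ (psC T.ring n a) = T.incl a := by
  classical
  have hιm : Ideal.map T.incl (maximalIdeal T.ring.carrier) ≤ maximalIdeal R.carrier :=
    map_le_max T.incl T.ring.res_surjective R.res_surjective T.res_incl
  obtain ⟨n, s, hs, hind⟩ := exists_minimal_gens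
    (Ideal.map T.incl (maximalIdeal T.ring.carrier) ⊔ maximalIdeal R.carrier ^ 2)
    (sup_le hιm (Ideal.pow_le_self two_ne_zero))
  have hs0 : ∀ i, R.res (s i) = 0 := fun i => (CRing.mem_maximalIdeal_iff R _).1
    (hs ▸ Ideal.mem_sup_left (Ideal.subset_span ⟨i, rfl⟩))
  obtain ⟨Φ, hΦ, hΦC, hΦX⟩ := exists_ps_eval (R := T.ring) (T := R) T.incl T.res_incl s hs0
  let P := psRing T.ring n
  have := P.isAdicComplete
  have := R.isAdicComplete
  have hΦsurj : Function.Surjective Φ := by
    refine surjective_of_cotangent Φ P.res_surjective R.res_surjective hΦ ?_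
    refine le_antisymm (sup_le (map_le_max Φ P.res_surjective R.res_surjective hΦ)
      (Ideal.pow_le_self two_ne_zero)) ?_
    conv_lhs => rw [← hs]
    refine sup_le (Ideal.span_le.2 ?_) (sup_le (Ideal.map_le_iff_le_comap.2 fun a ha => ?_) le_sup_right)
    · rintro _ ⟨i, rfl⟩
      exact Ideal.mem_sup_left (hΦX i ▸ Ideal.mem_map_of_mem _ (X_mem_max_ps T.ring n i))
    · refine Ideal.mem_sup_left (hΦC a ▸ Ideal.mem_map_of_mem _ ((CRing.mem_maximalIdeal_iff P _).2 ?_))
      exact (AlgHom.congr_fun (res_comp_psC T.ring n) a).trans ((CRing.mem_maximalIdeal_iff T.ring a).1 ha)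
  have hπm : Ideal.map T.proj (maximalIdeal R.carrier) ≤ maximalIdeal T.ring.carrier :=
    map_le_max T.proj R.res_surjective T.ring.res_surjective T.res_proj
  have hCm : Ideal.map (psC T.ring n) (maximalIdeal T.ring.carrier) ≤ maximalIdeal P.carrier :=
    map_le_max (psC T.ring n) T.ring.res_surjective P.res_surjective (res_comp_psC T.ring n)
  have hker : ∀ z : P.carrier, Φ z ∈ maximalIdeal R.carrier ^ 2 → z ∈ maximalIdeal P.carrier ^ 2 := by
    intro z₀ hz
    obtain ⟨z, rfl⟩ : ∃ z : MvPowerSeries (Fin n) T.ring.carrier, z = z₀ := ⟨z₀, rfl⟩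
    obtain ⟨g, -, hzg⟩ := CAlgH.exists_eq_C_add_sum_X_mul z
    have ha : T.ring.res (MvPowerSeries.constantCoeff z) = 0 :=
      (AlgHom.congr_fun hΦ z).symm.trans ((CRing.mem_maximalIdeal_iff R _).1
        (Ideal.pow_le_self two_ne_zero hz))
    have hΦz : Φ z = T.incl (MvPowerSeries.constantCoeff z) + ∑ i, Φ (g i) * s i := by
      conv_lhs => rw [hzg]
      erw [map_add, map_sum, hΦC]
      congr 1
      refine Finset.sum_congr rfl fun i _ => ?_
      erw [map_mul, hΦX, mul_comm]
    have hg : ∀ i, Φ (g i) ∈ maximalIdeal R.carrier := hind _ (by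
      rw [show (∑ i, Φ (g i) * s i) = Φ z - T.incl (MvPowerSeries.constantCoeff z) from by
        rw [hΦz, add_sub_cancel_left]]
      exact sub_mem (Ideal.mem_sup_right hz) (Ideal.mem_sup_left
        (Ideal.mem_map_of_mem _ ((CRing.mem_maximalIdeal_iff T.ring _).2 ha))))
    have hg' : ∀ i, g i ∈ maximalIdeal (MvPowerSeries (Fin n) T.ring.carrier) := fun i =>
      (CRing.mem_maximalIdeal_iff P _).2
        ((AlgHom.congr_fun hΦ (g i)).symm.trans ((CRing.mem_maximalIdeal_iff R _).1 (hg i)))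
    have hsum : (∑ i, MvPowerSeries.X i * g i) ∈
        maximalIdeal (MvPowerSeries (Fin n) T.ring.carrier) ^ 2 := by
      refine Ideal.sum_mem _ fun i _ => ?_
      rw [pow_two]
      exact Ideal.mul_mem_mul (X_mem_max_ps T.ring n i) (hg' i)
    have h1 : T.incl (MvPowerSeries.constantCoeff z) ∈ maximalIdeal R.carrier ^ 2 := by
      rw [show T.incl (MvPowerSeries.constantCoeff z) = Φ z - ∑ i, Φ (g i) * s i from by
        rw [hΦz, add_sub_cancel_right]]
      refine sub_mem hz (Ideal.sum_mem _ fun i _ => ?_)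
      rw [pow_two]
      exact Ideal.mul_mem_mul (hg i) ((CRing.mem_maximalIdeal_iff R _).2 (hs0 i))
    have h2 := Ideal.mem_map_of_mem T.proj h1
    rw [Ideal.map_pow, show T.proj (T.incl (MvPowerSeries.constantCoeff z)) = MvPowerSeries.constantCoeff z
      from AlgHom.congr_fun T.proj_incl _] at h2
    have h3 := Ideal.mem_map_of_mem (psC T.ring n) (Ideal.pow_right_mono hπm 2 h2)
    rw [Ideal.map_pow] at h3
    rw [hzg]
    exact Ideal.add_mem _ (Ideal.pow_right_mono hCm 2 h3) hsum
  let μ₁ : P.trunc 1 ⟶ R.trunc 1 := CRing.truncMapOfHom Φ hΦ 1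
  have hμ₁ : Function.Bijective μ₁.toAlgHom := by
    refine ⟨(injective_iff_map_eq_zero μ₁.toAlgHom).2 fun z hz => ?_, fun z => ?_⟩
    · obtain ⟨x, rfl⟩ := truncHom_surjective P 1 z
      exact (truncHom_eq_zero_iff P 1 x).2 (hker x ((truncHom_eq_zero_iff R 1 _).1 hz))
    · obtain ⟨a, rfl⟩ := truncHom_surjective R 1 z
      obtain ⟨b, rfl⟩ := hΦsurj a
      exact ⟨(P.truncHom 1).1 b, rfl⟩
  let ξP := T.family.along (psC T.ring n) (res_comp_psC T.ring n)
  have hy : F.map μ₁ (ξP.app _ (P.truncHom 1)) = ξ.app _ (R.truncHom 1) := by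
    rw [← ξP.natural, ← T.family_along_incl (R.trunc 1) (R.truncHom 1)]
    exact app_congr T.family (AlgHom.ext fun a => congrArg (R.truncHom 1).1 (hΦC a))
  obtain ⟨w₁, hw₁, hw₁'⟩ := hξ μ₁ hμ₁.2 (R.truncHom 1) (ξP.app _ (P.truncHom 1)) hy
  obtain ⟨σ, hσ, hσ1, -⟩ := exists_extend_one ξ hξ ξP.toFormalElt w₁ hw₁'
  let θ : P.carrier →ₐ[Λ] P.carrier := σ.comp Φ
  have hθ : P.res.comp θ = P.res := by rw [← AlgHom.comp_assoc, hσ, hΦ]
  have hθ1 : ∀ x, θ x - x ∈ maximalIdeal P.carrier ^ 2 := fun x => by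
    refine (truncHom_eq_iff P 1 _ _).1 (hμ₁.1 ?_)
    refine Eq.trans ?_ (rfl : (R.truncHom 1).1 (Φ x) = _)
    refine Eq.trans ?_ (AlgHom.congr_fun (congrArg Subtype.val hw₁) (Φ x))
    exact congrArg μ₁.toAlgHom (AlgHom.congr_fun hσ1 (Φ x))
  have hθsurj : Function.Surjective θ := by
    refine surjective_of_cotangent θ P.res_surjective P.res_surjective hθ ?_
    refine le_antisymm (sup_le (map_le_max θ P.res_surjective P.res_surjective hθ)
      (Ideal.pow_le_self two_ne_zero)) fun x hx => ?_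
    rw [show x = θ x - (θ x - x) by ring]
    exact sub_mem (Ideal.mem_sup_left (Ideal.mem_map_of_mem θ hx)) (Ideal.mem_sup_right (hθ1 x))
  have hinj : Function.Injective θ := (bijective_of_surjective_endo θ.toRingHom hθsurj).1
  exact ⟨n, Φ, ⟨fun a b h => hinj (congrArg σ h), hΦsurj⟩, hΦC⟩

/-- perturbation of a map into an Artinian object by a derivation times a socle element -/
theorem exists_perturb {X : Type u} [CommRing X] [Algebra Λ X] {B : Art Λ k} (resX : X →ₐ[Λ] k)
    (h : X →ₐ[Λ] B) (hh : B.res.comp h = resX) (d : X →ₗ[Λ] k)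
    (hd : ∀ a b, d (a * b) = resX a * d b + resX b * d a) {t : B} (ht0 : B.res t = 0)
    (ht : ∀ a ∈ maximalIdeal B, a * t = 0) :
    ∃ g : X →ₐ[Λ] B, B.res.comp g = resX ∧ ∀ x a, B.res a = d x → g x = h x + a * t := by
  choose ρ hρ using B.res_surjective
  have wd : ∀ a a' : B, B.res a = B.res a' → a * t = a' * t := fun a a' e => by
    rw [← sub_eq_zero, ← sub_mul]
    refine ht _ ?_
    rw [mem_max_iff_of_surjective (B.res : B →+* k) B.res_surjective, RingHom.coe_coe, map_sub, e, sub_self]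
  have htt : t * t = 0 := ht t
    ((mem_max_iff_of_surjective (B.res : B →+* k) B.res_surjective).2 ht0)
  have hh' : ∀ x, B.res (h x) = resX x := fun x => AlgHom.congr_fun hh x
  let e : X → B := fun x => ρ (d x) * t
  have ev : ∀ x a, B.res a = d x → e x = a * t := fun x a ha => wd _ _ ((hρ _).trans ha.symm)
  have e_add : ∀ x y, e (x + y) = e x + e y := fun x y => by
    rw [ev (x + y) (ρ (d x) + ρ (d y)) (by rw [map_add, map_add, hρ, hρ]), add_mul]
  have e_alg : ∀ l, e (algebraMap Λ X l) = 0 := fun l => by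
    have h1 : d 1 = 0 := by
      have := hd 1 1
      rw [mul_one, map_one resX, one_mul, left_eq_add] at this
      exact this
    rw [ev (algebraMap Λ X l) 0 (by
      rw [map_zero, Algebra.algebraMap_eq_smul_one, map_smul, h1, smul_zero]), zero_mul]
  have e_mul : ∀ x y, e (x * y) = h x * e y + h y * e x := fun x y => by
    rw [ev (x * y) (h x * ρ (d y) + h y * ρ (d x))
      (by rw [map_add, map_mul, map_mul, hh', hh', hρ, hρ, hd])]
    simp only [e]; ring
  refine ⟨{ toFun := fun x => h x + e x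
            map_one' := by
              have := e_alg 1
              rw [map_one] at this
              rw [this, map_one, add_zero]
            map_mul' := fun x y => by
              show h (x * y) + e (x * y) = (h x + e x) * (h y + e y)
              have : e x * e y = 0 := by
                simp only [e]
                rw [mul_mul_mul_comm, htt, mul_zero]
              rw [map_mul, e_mul]
              linear_combination (-1 : B) * this
            map_zero' := by
              have := e_alg 0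
              rw [map_zero] at this
              rw [this, map_zero, add_zero]
            map_add' := fun x y => by
              show h (x + y) + e (x + y) = _
              rw [map_add, e_add, add_add_add_comm]
            commutes' := fun l => by
              show h _ + e _ = _
              rw [e_alg, add_zero, AlgHom.commutes] }, AlgHom.ext fun x => ?_, fun x a ha => ?_⟩
  · show B.res (h x + e x) = resX x
    simp only [e]
    rw [map_add, map_mul, ht0, mul_zero, add_zero, hh']
  · show h x + e x = h x + a * t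
    rw [ev x a ha]

theorem injective_dual_of_isMinimalVersal [IsNoetherianRing Λ] [Module.Finite Λ k]
    (hk : Subsingleton (Derivation Λ k k)) (h2 : Heps F) (hξ : ξ.IsMinimalVersal) :
    Function.Injective (ξ.app (Art.dual Λ k)) := by
  classical
  intro φ φ' he
  by_contra hne
  let d : HomSet R.carrier R.res (Art.dual Λ k) → (R.carrier →ₗ[Λ] k) := fun χ =>
    (TrivSqZeroExt.sndHom k k).restrictScalars Λ ∘ₗ (χ.1.toLinearMap : R.carrier →ₗ[Λ] TrivSqZeroExt k k)
  have hd : ∀ χ a b, d χ (a * b) = R.res a * d χ b + R.res b * d χ a := fun χ a b => by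
    have h1 : ∀ a, TrivSqZeroExt.fst (show TrivSqZeroExt k k from χ.1 a) = R.res a := fun a =>
      AlgHom.congr_fun χ.2 a
    show TrivSqZeroExt.snd (show TrivSqZeroExt k k from χ.1 (a * b)) = _
    rw [show (show TrivSqZeroExt k k from χ.1 (a * b)) =
      (show TrivSqZeroExt k k from χ.1 a) * (show TrivSqZeroExt k k from χ.1 b) from map_mul χ.1 a b,
      TrivSqZeroExt.snd_mul, op_smul_eq_smul, smul_eq_mul, smul_eq_mul, h1, h1]
    rfl
  let D : R.carrier →ₗ[Λ] k := d φ - d φ'
  have hD : ∀ a b, D (a * b) = R.res a * D b + R.res b * D a := fun a b => by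
    simp only [D, LinearMap.sub_apply, hd]; ring
  have hD0 : D ≠ 0 := fun h => hne (Subtype.ext (AlgHom.ext fun a => TrivSqZeroExt.ext
    ((AlgHom.congr_fun φ.2 a).trans (AlgHom.congr_fun φ'.2 a).symm)
    (sub_eq_zero.1 (LinearMap.congr_fun h a))))
  obtain ⟨x, hx, hDx⟩ : ∃ x ∈ maximalIdeal R.carrier, D x = -1 := by
    obtain ⟨y, hy, hDy⟩ : ∃ y ∈ maximalIdeal R.carrier, D y ≠ 0 := by
      by_contra hc
      push Not at hc
      choose τ hτ using R.res_surjective
      have key : ∀ a b, R.res a = R.res b → D a = D b := fun a b e => by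
        rw [← sub_eq_zero, ← map_sub]
        refine hc _ ((CRing.mem_maximalIdeal_iff R _).2 ?_)
        rw [map_sub, e, sub_self]
      let δ : Derivation Λ k k := Derivation.mk'
        { toFun := fun c => D (τ c)
          map_add' := fun a b => (key _ (τ a + τ b) (by rw [map_add, hτ, hτ, hτ])).trans (map_add D _ _)
          map_smul' := fun l a => (key _ (l • τ a) (by rw [map_smul, hτ, hτ])).trans (map_smul D l _) }
        (fun a b => by
          show D (τ (a * b)) = a • D (τ b) + b • D (τ a)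
          rw [key _ (τ a * τ b) (by rw [map_mul, hτ, hτ, hτ]), hD, hτ, hτ, smul_eq_mul, smul_eq_mul])
      refine hD0 (LinearMap.ext fun a => ?_)
      rw [key a (τ (R.res a)) (hτ _).symm]
      exact Derivation.congr_fun (@Subsingleton.elim _ hk δ 0) (R.res a)
    obtain ⟨a, ha⟩ := R.res_surjective (-(D y)⁻¹)
    refine ⟨a * y, Ideal.mul_mem_left _ a hy, ?_⟩
    rw [hD, ha, (CRing.mem_maximalIdeal_iff R y).1 hy, zero_mul, add_zero, neg_mul, inv_mul_cancel₀ hDy]
  let B := R.trunc 1
  let t : B := (R.truncHom 1).1 x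
  have ht0 : B.res t = 0 := (res_truncHom R 1 x).trans ((CRing.mem_maximalIdeal_iff R x).1 hx)
  have ht : ∀ a ∈ maximalIdeal B, a * t = 0 := fun a ha => by
    obtain ⟨y, rfl⟩ := truncHom_surjective R 1 a
    have hy : y ∈ maximalIdeal R.carrier := (CRing.mem_maximalIdeal_iff R y).2
      ((res_truncHom R 1 y).symm.trans
        ((mem_max_iff_of_surjective (B.res : B →+* k) B.res_surjective).1 ha))
    refine (map_mul (R.truncHom 1).1 y x).symm.trans ((truncHom_eq_zero_iff R 1 _).2 ?_)
    show y * x ∈ maximalIdeal R.carrier ^ (1 + 1)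
    rw [pow_two]
    exact Ideal.mul_mem_mul hy hx
  obtain ⟨Q, q', q'', hQ⟩ := exists_fibreProd (Art.toBase B) (Art.toBase (Art.dual Λ k))
    (Art.dual Λ k).res_surjective
  let dQ : Q →ₗ[Λ] k :=
    (TrivSqZeroExt.sndHom k k).restrictScalars Λ ∘ₗ (q''.toAlgHom.toLinearMap : Q →ₗ[Λ] TrivSqZeroExt k k)
  have hdQ : ∀ a b, dQ (a * b) = Q.res a * dQ b + Q.res b * dQ a := fun a b => by
    have h1 : ∀ a, TrivSqZeroExt.fst (show TrivSqZeroExt k k from q'' a) = Q.res a := fun a =>
      Art.res_app q'' a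
    show TrivSqZeroExt.snd (show TrivSqZeroExt k k from q'' (a * b)) = _
    rw [show (show TrivSqZeroExt k k from q'' (a * b)) =
      (show TrivSqZeroExt k k from q'' a) * (show TrivSqZeroExt k k from q'' b) from map_mul q''.toAlgHom a b,
      TrivSqZeroExt.snd_mul, op_smul_eq_smul, smul_eq_mul, smul_eq_mul, h1, h1]
    rfl
  obtain ⟨sg, hsg, hsg'⟩ := exists_perturb Q.res q'.toAlgHom q'.res_comp dQ hdQ ht0 ht
  let σ : Q ⟶ B := ⟨sg, hsg⟩
  obtain ⟨β, hβ, hβ'⟩ := exists_perturb R.res (R.truncHom 1).1 (R.truncHom 1).2 (-(d φ'))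
    (fun a b => by simp only [LinearMap.neg_apply, hd]; ring) ht0 ht
  let β₁ : HomSet R.carrier R.res B := ⟨β, hβ⟩
  obtain ⟨z, hz₁, hz₂⟩ := HomSet.exists_lift hQ β₁ φ (HomSet.base_eq _ _)
  obtain ⟨z', hz'₁, hz'₂⟩ := HomSet.exists_lift hQ β₁ φ' (HomSet.base_eq _ _)
  have hzz : ξ.app Q z = ξ.app Q z' := (cmp_injective_iff hQ).1 (h2 q' q'' hQ).1 _ _
    (by rw [← ξ.natural, ← ξ.natural, hz₁, hz'₁]) (by rw [← ξ.natural, ← ξ.natural, hz₂, hz'₂, he])
  have hval : ∀ (z : HomSet R.carrier R.res Q) (χ : HomSet R.carrier R.res (Art.dual Λ k)),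
      HomSet.map q' z = β₁ → HomSet.map q'' z = χ → ∀ (y a : R.carrier),
      R.res a = d χ y - d φ' y → σ (z.1 y) = (R.truncHom 1).1 (y + a * x) := by
    intro z χ h₁ h₂ y a ha
    obtain ⟨b, hb⟩ := B.res_surjective (-(d φ' y))
    obtain ⟨c, hc⟩ := B.res_surjective (d χ y)
    refine (hsg' (z.1 y) c (hc.trans (congrArg (fun w : HomSet R.carrier R.res (Art.dual Λ k) =>
      TrivSqZeroExt.snd (show TrivSqZeroExt k k from w.1 y)) h₂).symm)).trans ?_
    rw [show q'.toAlgHom (z.1 y) = β y from congrArg (fun w : HomSet R.carrier R.res B => w.1 y) h₁,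
      hβ' y b hb, map_add, map_mul, add_assoc, ← add_mul]
    congr 1
    refine sub_eq_zero.1 ((sub_mul _ _ t).symm.trans (ht _ ?_))
    rw [mem_max_iff_of_surjective (B.res : B →+* k) B.res_surjective, RingHom.coe_coe, map_sub, map_add,
      hb, hc, res_truncHom, ha]
    ring
  have hσz' : HomSet.map σ z' = R.truncHom 1 := Subtype.ext (AlgHom.ext fun y => by
    refine (hval z' φ' hz'₁ hz'₂ y 0 (by rw [map_zero, sub_self])).trans ?_
    rw [zero_mul, add_zero])
  let w₁ := HomSet.map σ z
  have hw₁ : ξ.app _ w₁ = ξ.toFormalElt.elt 1 := by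
    show ξ.app _ (HomSet.map σ z) = ξ.app _ (R.truncHom 1)
    rw [ξ.natural, hzz, ← ξ.natural, hσz']
  obtain ⟨ψ, hψ, hψ1, hψξ⟩ := exists_extend_one ξ hξ.1 ξ.toFormalElt w₁ hw₁
  have hsurj : Function.Surjective ψ := hξ.2 R ξ.toFormalElt ψ hψ
    ((push_eq_along ξ (AlgHom.id Λ R.carrier) (AlgHom.comp_id _) ψ hψ ξ.toFormalElt
      (fun n => app_congr ξ rfl)).symm.trans (by
        simpa only [AlgHom.comp_id] using hψξ))
  obtain ⟨y, hy⟩ := hsurj x
  obtain ⟨a, ha⟩ := R.res_surjective (D y)
  have h1 : (R.truncHom 1).1 (ψ y) = (R.truncHom 1).1 (y + a * x) :=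
    (AlgHom.congr_fun hψ1 y).trans (hval z φ hz₁ hz₂ y a ha)
  rw [hy, truncHom_eq_iff] at h1
  have hkill : ∀ e ∈ CRing.mpow R 1, D e = 0 := fun e he => by
    change e ∈ maximalIdeal R.carrier ^ (1 + 1) at he
    rw [pow_two] at he
    refine Submodule.mul_induction_on he (fun a ha b hb => ?_) fun a b ha hb => by
      rw [map_add, ha, hb, add_zero]
    rw [hD, (CRing.mem_maximalIdeal_iff R a).1 ha, (CRing.mem_maximalIdeal_iff R b).1 hb, zero_mul,
      zero_mul, add_zero]
  have h3 := hkill _ h1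
  rw [map_sub, map_add, hD, (CRing.mem_maximalIdeal_iff R x).1 hx, ha, hDx, zero_mul, add_zero] at h3
  exact one_ne_zero (neg_eq_zero.1 (by linear_combination h3 : (-1 : k) = 0))

end Groth.Agent.ArtFunLib
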