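import Groth.Agent.ArtFunLib.Endo
import Groth.Agent.CAlgH.PowerSeriesComplete

/-!
Power series rings over coefficient rings.
-/

universe u v

open IsLocalRing CategoryTheory ArtFun

namespace Groth.Agent.ArtFunLib

variable {Λ : Type u} {k : Type u} [CommRing Λ] [Field k] [Algebra Λ k]

/-- the power series ring over a coefficient ring, as a coefficient ring -/
noncomputable def psRing (R : CRing Λ k) (n : ℕ) : CRing Λ k where
  carrier := MvPowerSeries (Fin n) R.carrier
  res :=
    { R.res.toRingHom.comp MvPowerSeries.constantCoeff with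
      commutes' := fun l => by
        show R.res (MvPowerSeries.constantCoeff
          (algebraMap Λ (MvPowerSeries (Fin n) R.carrier) l)) = _
        rw [MvPowerSeries.algebraMap_apply, MvPowerSeries.constantCoeff_C, AlgHom.commutes] }
  res_surjective := fun c => by
    obtain ⟨a, ha⟩ := R.res_surjective c
    refine ⟨MvPowerSeries.C a, ?_⟩
    show R.res (MvPowerSeries.constantCoeff (MvPowerSeries.C a)) = c
    rw [MvPowerSeries.constantCoeff_C, ha]
  isAdicComplete := by
    have := R.isAdicComplete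
    exact CAlgH.isAdicComplete_maximalIdeal_mvPowerSeries

theorem psRing_res (R : CRing Λ k) (n : ℕ) (f : MvPowerSeries (Fin n) R.carrier) :
    (psRing R n).res f = R.res (MvPowerSeries.constantCoeff f) := rfl

theorem X_mem_max_ps (R : CRing Λ k) (n : ℕ) (i : Fin n) :
    (MvPowerSeries.X i : MvPowerSeries (Fin n) R.carrier) ∈
      maximalIdeal (MvPowerSeries (Fin n) R.carrier) :=
  (CRing.mem_maximalIdeal_iff (psRing R n) _).2 (by
    rw [psRing_res, MvPowerSeries.constantCoeff_X, map_zero])

/-- the maximal ideal of a power series ring -/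
theorem max_ps_le (R : CRing Λ k) (n : ℕ) {I : Ideal (MvPowerSeries (Fin n) R.carrier)}
    (hC : ∀ a, R.res a = 0 → MvPowerSeries.C a ∈ I) (hX : ∀ i, MvPowerSeries.X i ∈ I) :
    maximalIdeal (MvPowerSeries (Fin n) R.carrier) ≤ I := fun f hf => by
  obtain ⟨g, -, hfg⟩ := CAlgH.exists_eq_C_add_sum_X_mul f
  rw [hfg]
  refine add_mem (hC _ ?_) (Ideal.sum_mem _ fun i _ => Ideal.mul_mem_right _ _ (hX i))
  exact (CRing.mem_maximalIdeal_iff (psRing R n) f).1 hf

/-- polynomials are dense -/
theorem exists_poly_ps (R : CRing Λ k) (n N : ℕ) (f : MvPowerSeries (Fin n) R.carrier) :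
    ∃ p : MvPolynomial (Fin n) R.carrier,
      f - (p : MvPowerSeries (Fin n) R.carrier) ∈ maximalIdeal (MvPowerSeries (Fin n) R.carrier) ^ N := by
  induction N generalizing f with
  | zero => exact ⟨0, by simp⟩
  | succ N ih =>
    obtain ⟨g, -, hfg⟩ := CAlgH.exists_eq_C_add_sum_X_mul f
    choose p hp using fun i => ih (g i)
    refine ⟨MvPolynomial.C (MvPowerSeries.constantCoeff f) + ∑ i, MvPolynomial.X i * p i, ?_⟩
    rw [← MvPolynomial.coeToMvPowerSeries.ringHom_apply, map_add, map_sum]
    simp only [map_mul, MvPolynomial.coeToMvPowerSeries.ringHom_apply, MvPolynomial.coe_C,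
      MvPolynomial.coe_X]
    have e : f - (MvPowerSeries.C (MvPowerSeries.constantCoeff f) +
        ∑ i, MvPowerSeries.X i * (p i : MvPowerSeries (Fin n) R.carrier)) =
        ∑ i, (MvPowerSeries.X i * g i -
          MvPowerSeries.X i * (p i : MvPowerSeries (Fin n) R.carrier)) := by
      rw [Finset.sum_sub_distrib]
      linear_combination hfg
    rw [e]
    refine Ideal.sum_mem _ fun i _ => ?_
    rw [← mul_sub, pow_succ']
    exact Ideal.mul_mem_mul (X_mem_max_ps R n i) (hp i)

/-- maps out of a power series ring compatible with augmentations are determined on constants and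
variables -/
theorem ps_hom_ext {R T : CRing Λ k} {n : ℕ} {g g' : (psRing R n).carrier →ₐ[Λ] T.carrier}
    (hg : T.res.comp g = (psRing R n).res) (hg' : T.res.comp g' = (psRing R n).res)
    (hC : ∀ a, g (MvPowerSeries.C (σ := Fin n) a) = g' (MvPowerSeries.C (σ := Fin n) a))
    (hX : ∀ i, g (MvPowerSeries.X (R := R.carrier) i) = g' (MvPowerSeries.X (R := R.carrier) i)) :
    g = g' := by
  refine hom_ext_trunc T fun m => AlgHom.ext fun f₀ => ?_
  obtain ⟨f, hf⟩ : ∃ f : MvPowerSeries (Fin n) R.carrier, f₀ = f := ⟨f₀, rfl⟩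
  obtain ⟨p, hp⟩ := exists_poly_ps R n (m + 1) f
  have hp0 : ∀ (h : (psRing R n).carrier →ₐ[Λ] T.carrier), T.res.comp h = (psRing R n).res →
      (T.truncHom m).1 (h f) = (T.truncHom m).1 (h (p : MvPowerSeries (Fin n) R.carrier)) := fun h hh => by
    have h0 : (T.truncHom m).1 (h (f - (p : MvPowerSeries (Fin n) R.carrier))) = 0 :=
      (truncHom_eq_zero_iff T m _).2 (CRing.mpow_le_comap (R' := psRing R n) h hh m hp)
    refine sub_eq_zero.1 (Eq.trans ?_ h0)
    exact ((congrArg (T.truncHom m).1 (h.map_sub f _)).trans ((T.truncHom m).1.map_sub _ _)).symm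
  have e : g.toRingHom.comp MvPolynomial.coeToMvPowerSeries.ringHom =
      g'.toRingHom.comp MvPolynomial.coeToMvPowerSeries.ringHom :=
    MvPolynomial.ringHom_ext (fun a => by
      show g (((MvPolynomial.C a : MvPolynomial (Fin n) R.carrier) : MvPowerSeries (Fin n) R.carrier)) =
        g' (((MvPolynomial.C a : MvPolynomial (Fin n) R.carrier) : MvPowerSeries (Fin n) R.carrier))
      rw [MvPolynomial.coe_C]; exact hC a) fun i => by
      show g (((MvPolynomial.X i : MvPolynomial (Fin n) R.carrier) : MvPowerSeries (Fin n) R.carrier)) =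
        g' (((MvPolynomial.X i : MvPolynomial (Fin n) R.carrier) : MvPowerSeries (Fin n) R.carrier))
      rw [MvPolynomial.coe_X]; exact hX i
  have h1 := hp0 g hg
  have h2 := hp0 g' hg'
  rw [hf]
  show (T.truncHom m).1 (g f) = (T.truncHom m).1 (g' f)
  rw [h1, h2]
  exact congrArg (T.truncHom m).1 (RingHom.congr_fun e p)

/-- evaluation of power series in a coefficient ring -/
theorem exists_ps_eval {R T : CRing Λ k} {n : ℕ} (φ : R.carrier →ₐ[Λ] T.carrier)
    (hφ : T.res.comp φ = R.res) (a : Fin n → T.carrier) (ha : ∀ i, T.res (a i) = 0) :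
    ∃ g : (psRing R n).carrier →ₐ[Λ] T.carrier, T.res.comp g = (psRing R n).res ∧
      (∀ r, g (MvPowerSeries.C (σ := Fin n) r) = φ r) ∧
      ∀ i, g (MvPowerSeries.X (R := R.carrier) i) = a i := by
  have := T.isAdicComplete
  obtain ⟨g, hgC, hgX⟩ := CAlgH.exists_mvPowerSeries_eval φ.toRingHom (maximalIdeal T.carrier) a
    fun i => (CRing.mem_maximalIdeal_iff T _).2 (ha i)
  have hC : ∀ r, g (MvPowerSeries.C r) = φ r := fun r => RingHom.congr_fun hgC r
  refine ⟨{ g with commutes' := fun l => ?_ }, AlgHom.ext fun f => ?_, hC, hgX⟩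
  · show g (algebraMap Λ (MvPowerSeries (Fin n) R.carrier) l) = _
    rw [MvPowerSeries.algebraMap_apply, hC, AlgHom.commutes]
  · show T.res (g f) = R.res (MvPowerSeries.constantCoeff f)
    obtain ⟨c, -, hf⟩ := CAlgH.exists_eq_C_add_sum_X_mul f
    conv_lhs => rw [hf]
    rw [map_add, map_add, map_sum, map_sum, Finset.sum_eq_zero fun i _ => ?_, add_zero, hC]
    · exact AlgHom.congr_fun hφ _
    · rw [map_mul, map_mul, hgX, ha, zero_mul]

end Groth.Agent.ArtFunLib
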