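import Groth.Agent.ArtFunLib.Completion
import Mathlib.RingTheory.TensorProduct.Maps

/-!
Pushouts of coefficient rings.
-/

universe u v

open IsLocalRing CategoryTheory ArtFun
open scoped TensorProduct Pointwise

namespace Groth.Agent.ArtFunLib

variable {Λ : Type u} {k : Type u} [CommRing Λ] [Field k] [Algebra Λ k]

theorem fg_of_le_of_quotient {T : Type u} [CommRing T] (N M : Ideal T) (hle : N ≤ M) (hN : N.FG)
    [IsNoetherian T (T ⧸ N)] : M.FG := by
  refine Submodule.fg_of_fg_map_of_fg_inf_ker N.mkQ (IsNoetherian.noetherian _) ?_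
  rw [Submodule.ker_mkQ, inf_eq_right.2 hle]
  exact hN

theorem exists_pushout_aux [IsNoetherianRing Λ] [Module.Finite Λ k] {R : Type u} [CommRing R]
    [Algebra Λ R] {resR : R →ₐ[Λ] k} (S₁ S₂ : CRing Λ k)
    (f₁ : R →ₐ[Λ] S₁.carrier) (hf₁ : S₁.res.comp f₁ = resR)
    (f₂ : R →ₐ[Λ] S₂.carrier) (hf₂ : S₂.res.comp f₂ = resR) :
    ∃ (P : CRing Λ k) (i₁ : S₁.carrier →ₐ[Λ] P.carrier) (i₂ : S₂.carrier →ₐ[Λ] P.carrier),
      P.res.comp i₁ = S₁.res ∧ P.res.comp i₂ = S₂.res ∧ i₁.comp f₁ = i₂.comp f₂ ∧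
      ∀ (T : CRing Λ k) (g₁ : S₁.carrier →ₐ[Λ] T.carrier) (g₂ : S₂.carrier →ₐ[Λ] T.carrier),
        T.res.comp g₁ = S₁.res → T.res.comp g₂ = S₂.res → g₁.comp f₁ = g₂.comp f₂ →
          ∃! h : P.carrier →ₐ[Λ] T.carrier, T.res.comp h = P.res ∧ h.comp i₁ = g₁ ∧ h.comp i₂ = g₂ := by
  classical
  let := f₁.toRingHom.toAlgebra
  let := f₂.toRingHom.toAlgebra
  let := resR.toRingHom.toAlgebra
  have : IsScalarTower Λ R S₁.carrier := IsScalarTower.of_algebraMap_eq fun l => (f₁.commutes l).symm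
  have : IsScalarTower Λ R S₂.carrier := IsScalarTower.of_algebraMap_eq fun l => (f₂.commutes l).symm
  have : IsScalarTower Λ R k := IsScalarTower.of_algebraMap_eq fun l => (resR.commutes l).symm
  let r₁ : S₁.carrier →ₐ[R] k := { S₁.res.toRingHom with commutes' := AlgHom.congr_fun hf₁ }
  let r₂ : S₂.carrier →ₐ[R] k := { S₂.res.toRingHom with commutes' := AlgHom.congr_fun hf₂ }
  let T : Type u := S₁.carrier ⊗[R] S₂.carrier
  let ι₁ : S₁.carrier →ₐ[Λ] T :=
    (Algebra.TensorProduct.includeLeft : S₁.carrier →ₐ[R] T).restrictScalars Λ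
  let ι₂ : S₂.carrier →ₐ[Λ] T :=
    (Algebra.TensorProduct.includeRight : S₂.carrier →ₐ[R] T).restrictScalars Λ
  let aug : T →ₐ[Λ] k := (Algebra.TensorProduct.productMap r₁ r₂).restrictScalars Λ
  have ha₁ : aug.comp ι₁ = S₁.res := AlgHom.ext fun a => by
    show Algebra.TensorProduct.productMap r₁ r₂ (a ⊗ₜ 1) = S₁.res a
    rw [Algebra.TensorProduct.productMap_apply_tmul, map_one, mul_one]
    rfl
  have ha₂ : aug.comp ι₂ = S₂.res := AlgHom.ext fun a => by
    show Algebra.TensorProduct.productMap r₁ r₂ (1 ⊗ₜ a) = S₂.res a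
    rw [Algebra.TensorProduct.productMap_apply_tmul, map_one, one_mul]
    rfl
  have haug : Function.Surjective aug := fun c => by
    obtain ⟨a, rfl⟩ := S₁.res_surjective c
    exact ⟨ι₁ a, AlgHom.congr_fun ha₁ a⟩
  let N : Ideal T := Ideal.map ι₁ (maximalIdeal S₁.carrier) ⊔ Ideal.map ι₂ (maximalIdeal S₂.carrier)
  have hN₁ : ∀ a, S₁.res a = 0 → Ideal.Quotient.mk N (ι₁ a) = 0 := fun a ha =>
    Ideal.Quotient.eq_zero_iff_mem.2 (Ideal.mem_sup_left
      (Ideal.mem_map_of_mem _ ((CRing.mem_maximalIdeal_iff S₁ a).2 ha)))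
  have hN₂ : ∀ a, S₂.res a = 0 → Ideal.Quotient.mk N (ι₂ a) = 0 := fun a ha =>
    Ideal.Quotient.eq_zero_iff_mem.2 (Ideal.mem_sup_right
      (Ideal.mem_map_of_mem _ ((CRing.mem_maximalIdeal_iff S₂ a).2 ha)))
  have hspan : ∀ {S : CRing Λ k} (ι : S.carrier →ₐ[Λ] T)
      (_ : ∀ a, S.res a = 0 → Ideal.Quotient.mk N (ι a) = 0) (s : Finset k)
      (_ : Submodule.span Λ (s : Set k) = ⊤) (σ : k → S.carrier) (_ : ∀ c, S.res (σ c) = c)
      (a : S.carrier), Ideal.Quotient.mk N (ι a) ∈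
        Submodule.span Λ ((fun c => Ideal.Quotient.mk N (ι (σ c))) '' (s : Set k)) := by
    intro S ι hι s hs σ hσ a
    let F : S.carrier →ₗ[Λ] T ⧸ N := (Ideal.Quotient.mkₐ Λ N).toLinearMap.comp ι.toLinearMap
    have h : S.res a ∈ Submodule.span Λ (S.res.toLinearMap '' (σ '' (s : Set k))) := by
      rw [Set.image_image]
      simp only [AlgHom.toLinearMap_apply, hσ, Set.image_id']
      rw [hs]; trivial
    rw [← Submodule.map_span] at h
    obtain ⟨b, hb, hab⟩ := h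
    have h2 : F a = F b := by
      rw [← sub_eq_zero, ← map_sub]
      exact hι (a - b) (by rw [map_sub, sub_eq_zero]; exact hab.symm)
    show F a ∈ _
    rw [h2]
    have h3 : F b ∈ Submodule.map F (Submodule.span Λ (σ '' (s : Set k))) := ⟨b, hb, rfl⟩
    rw [Submodule.map_span, Set.image_image] at h3
    exact h3
  have hfinN : Module.Finite Λ (T ⧸ N) := by
    obtain ⟨s, hs⟩ := Module.Finite.fg_top (R := Λ) (M := k)
    choose σ₁ hσ₁ using S₁.res_surjective
    choose σ₂ hσ₂ using S₂.res_surjective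
    refine ⟨⟨s.image (fun c => Ideal.Quotient.mk N (ι₁ (σ₁ c))) *
      s.image (fun c => Ideal.Quotient.mk N (ι₂ (σ₂ c))), eq_top_iff.2 fun z hz => ?_⟩⟩
    clear hz
    rw [Finset.coe_mul, Finset.coe_image, Finset.coe_image, ← Submodule.span_mul_span]
    obtain ⟨z, rfl⟩ := Ideal.Quotient.mk_surjective z
    induction z using TensorProduct.induction_on with
    | zero => rw [map_zero]; exact zero_mem _
    | tmul a b =>
      have e : (a ⊗ₜ[R] b : T) = ι₁ a * ι₂ b := by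
        show _ = (a ⊗ₜ[R] (1 : S₂.carrier)) * ((1 : S₁.carrier) ⊗ₜ[R] b)
        rw [Algebra.TensorProduct.tmul_mul_tmul, mul_one, one_mul]
      rw [e, map_mul]
      exact Submodule.mul_mem_mul (hspan ι₁ hN₁ s hs σ₁ hσ₁ a) (hspan ι₂ hN₂ s hs σ₂ hσ₂ b)
    | add x y hx hy => rw [map_add]; exact add_mem hx hy
  have hM : (RingHom.ker (aug : T →+* k)).FG := by
    have : IsNoetherian T (T ⧸ N) :=
      isNoetherian_of_tower Λ (isNoetherian_of_isNoetherianRing_of_finite Λ (T ⧸ N))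
    have hle : N ≤ RingHom.ker (aug : T →+* k) := sup_le
      (Ideal.map_le_iff_le_comap.2 fun a ha => by
        show aug (ι₁ a) = 0
        exact (AlgHom.congr_fun ha₁ a).trans ((CRing.mem_maximalIdeal_iff S₁ a).1 ha))
      (Ideal.map_le_iff_le_comap.2 fun a ha => by
        show aug (ι₂ a) = 0
        exact (AlgHom.congr_fun ha₂ a).trans ((CRing.mem_maximalIdeal_iff S₂ a).1 ha))
    exact fg_of_le_of_quotient N _ hle (Submodule.FG.sup
      (Ideal.FG.map (IsNoetherian.noetherian _) _) (Ideal.FG.map (IsNoetherian.noetherian _) _))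
  obtain ⟨P, i, hi, -, -, -, hP⟩ := exists_completion aug haug hM
  refine ⟨P, i.comp ι₁, i.comp ι₂, by rw [← AlgHom.comp_assoc, hi, ha₁],
    by rw [← AlgHom.comp_assoc, hi, ha₂], ?_, fun U g₁ g₂ hg₁ hg₂ hg => ?_⟩
  · refine AlgHom.ext fun r => ?_
    show i (f₁ r ⊗ₜ[R] (1 : S₂.carrier)) = i ((1 : S₁.carrier) ⊗ₜ[R] f₂ r)
    congr 1
    exact Algebra.TensorProduct.tmul_one_eq_one_tmul r
  let := (g₁.comp f₁).toRingHom.toAlgebra
  have : IsScalarTower Λ R U.carrier :=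
    IsScalarTower.of_algebraMap_eq fun l => ((g₁.comp f₁).commutes l).symm
  let a₁ : S₁.carrier →ₐ[R] U.carrier := { g₁.toRingHom with commutes' := fun r => rfl }
  let a₂ : S₂.carrier →ₐ[R] U.carrier :=
    { g₂.toRingHom with commutes' := fun r => (AlgHom.congr_fun hg r).symm }
  let g : T →ₐ[Λ] U.carrier := (Algebra.TensorProduct.productMap a₁ a₂).restrictScalars Λ
  have hgt : ∀ a b, g (a ⊗ₜ[R] b) = g₁ a * g₂ b := fun a b =>
    Algebra.TensorProduct.productMap_apply_tmul a₁ a₂ a b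
  have hgaug : U.res.comp g = aug := AlgHom.ext fun z => by
    induction z using TensorProduct.induction_on with
    | zero => rw [map_zero, map_zero]
    | tmul a b =>
      show U.res (g (a ⊗ₜ[R] b)) = Algebra.TensorProduct.productMap r₁ r₂ (a ⊗ₜ[R] b)
      rw [hgt, map_mul, Algebra.TensorProduct.productMap_apply_tmul]
      exact congrArg₂ (· * ·) (AlgHom.congr_fun hg₁ a) (AlgHom.congr_fun hg₂ b)
    | add x y hx hy => rw [map_add, map_add, hx, hy]
  obtain ⟨h, ⟨hh, hhi⟩, huniq⟩ := hP U g hgaug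
  refine ⟨h, ⟨hh, AlgHom.ext fun a => ?_, AlgHom.ext fun b => ?_⟩, fun h' ⟨hh', h₁, h₂⟩ => huniq h' ⟨hh', ?_⟩⟩
  · refine (AlgHom.congr_fun hhi (ι₁ a)).trans ((hgt a 1).trans ?_)
    rw [map_one, mul_one]
  · refine (AlgHom.congr_fun hhi (ι₂ b)).trans ((hgt 1 b).trans ?_)
    rw [map_one, one_mul]
  · refine AlgHom.ext fun z => ?_
    induction z using TensorProduct.induction_on with
    | zero => rw [map_zero, map_zero]
    | tmul a b =>
      have e : (a ⊗ₜ[R] b : T) = ι₁ a * ι₂ b := by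
        show _ = (a ⊗ₜ[R] (1 : S₂.carrier)) * ((1 : S₁.carrier) ⊗ₜ[R] b)
        rw [Algebra.TensorProduct.tmul_mul_tmul, mul_one, one_mul]
      rw [hgt, e]
      show h' (i (ι₁ a * ι₂ b)) = _
      rw [map_mul, map_mul]
      exact congrArg₂ (· * ·) (AlgHom.congr_fun h₁ a) (AlgHom.congr_fun h₂ b)
    | add x y hx hy => rw [map_add, map_add, hx, hy]

end Groth.Agent.ArtFunLib
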