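import Groth.Agent.ArtFunLib.Endo
import Groth.Agent.ArtFunLib.PowerSeriesVersal
import Mathlib.RingTheory.Artinian.Module

/-!
Endomorphisms of coefficient rings fixing a family: lifting, idempotents, retracts, and the existence
of minimal retracts.
-/

universe u v

open IsLocalRing CategoryTheory ArtFun

namespace Groth.Agent.ArtFunLib

variable {Λ : Type u} {k : Type u} [CommRing Λ] [Field k] [Algebra Λ k] {F : Art Λ k ⥤ Type v}

/-- lifting a map to the first truncation to a map of coefficient rings compatible with a formal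
element -/
theorem exists_extend_one {R P : CRing Λ k} (ξ : Family R.carrier R.res F) (hξ : IsVersal ξ)
    (u : FormalElt F P) (w₁ : HomSet R.carrier R.res (P.trunc 1)) (hw₁ : ξ.app _ w₁ = u.elt 1) :
    ∃ (σ : R.carrier →ₐ[Λ] P.carrier) (hσ : P.res.comp σ = R.res),
      (P.truncHom 1).1.comp σ = w₁.1 ∧ (ξ.along σ hσ).toFormalElt = u := by
  have step : ∀ m (w : HomSet R.carrier R.res (P.trunc (m + 1))), ξ.app _ w = u.elt (m + 1) →
      ∃ w' : HomSet R.carrier R.res (P.trunc (m + 1 + 1)),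
        ξ.app _ w' = u.elt (m + 1 + 1) ∧ HomSet.map (P.truncMap (m + 1)) w' = w := by
    intro m w hw
    obtain ⟨w', h1, h2⟩ := hξ (P.truncMap (m + 1)) (truncMap_surjective P _) w (u.elt (m + 1 + 1))
      ((u.compat (m + 1)).trans hw.symm)
    exact ⟨w', h2, h1⟩
  choose next hnext hnext' using step
  let W : ∀ m, {w : HomSet R.carrier R.res (P.trunc (m + 1)) // ξ.app _ w = u.elt (m + 1)} :=
    fun m => Nat.rec
      (motive := fun m => {w : HomSet R.carrier R.res (P.trunc (m + 1)) // ξ.app _ w = u.elt (m + 1)})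
      ⟨w₁, hw₁⟩ (fun m p => ⟨next m p.1 p.2, hnext m p.1 p.2⟩) m
  have hW : ∀ m, HomSet.map (P.truncMap (m + 1)) (W (m + 1)).1 = (W m).1 := fun m =>
    hnext' m (W m).1 (W m).2
  obtain ⟨σ, hσ, hσn⟩ := exists_hom_of_compat P (fun m => HomSet.map (P.truncMap m) (W m).1)
    (fun m => by rw [hW m])
  refine ⟨σ, hσ, ?_, FormalElt.ext' fun m => ?_⟩
  · exact (hσn 1).trans (congrArg Subtype.val (hW 0))
  · refine (truncHom_comp P hσ (hσn m) ξ).trans ?_
    rw [ξ.natural, (W m).2, u.compat]

/-- `g` fixes the family `ξ` -/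
def Fixes {R : CRing Λ k} (ξ : Family R.carrier R.res F) (g : R.carrier →ₐ[Λ] R.carrier) : Prop :=
  ∃ hg : R.res.comp g = R.res, ∀ (A : Art Λ k) (φ : HomSet R.carrier R.res A),
    (ξ.along g hg).app A φ = ξ.app A φ

theorem fixes_iff {R : CRing Λ k} {ξ : Family R.carrier R.res F} {g : R.carrier →ₐ[Λ] R.carrier}
    (hg : R.res.comp g = R.res) : Fixes ξ g ↔ (ξ.along g hg).toFormalElt = ξ.toFormalElt :=
  ⟨fun ⟨_, h⟩ => FormalElt.ext' fun n => h _ (R.truncHom n),
    fun h => ⟨hg, fun A φ => family_ext R (fun n => congrArg (fun u => FormalElt.elt u n) h) A φ⟩⟩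

theorem fixes_id {R : CRing Λ k} (ξ : Family R.carrier R.res F) : Fixes ξ (AlgHom.id Λ R.carrier) :=
  ⟨AlgHom.comp_id _, fun _ _ => app_congr ξ (AlgHom.comp_id _)⟩

theorem Fixes.comp {R : CRing Λ k} {ξ : Family R.carrier R.res F} {g g' : R.carrier →ₐ[Λ] R.carrier}
    (h : Fixes ξ g) (h' : Fixes ξ g') : Fixes ξ (g.comp g') := by
  obtain ⟨hg, h⟩ := h
  obtain ⟨hg', h'⟩ := h'
  refine ⟨by rw [← AlgHom.comp_assoc, hg, hg'], fun A φ => ?_⟩
  refine Eq.trans ?_ (h A φ)
  refine Eq.trans ?_ (h' A ⟨φ.1.comp g, by rw [← AlgHom.comp_assoc, φ.2, hg]⟩)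
  exact app_congr ξ (AlgHom.comp_assoc _ _ _).symm

theorem Fixes.pow {R : CRing Λ k} {ξ : Family R.carrier R.res F} {g : R.carrier →ₐ[Λ] R.carrier}
    (h : Fixes ξ g) : ∀ N : ℕ, Fixes ξ (g ^ N)
  | 0 => fixes_id ξ
  | N + 1 => by rw [pow_succ]; exact (h.pow N).comp h

/-- The idempotent attached to an endomorphism fixing a family. -/
theorem exists_idempotent [IsNoetherianRing Λ] [Module.Finite Λ k] {R : CRing Λ k}
    {ξ : Family R.carrier R.res F} {ψ : R.carrier →ₐ[Λ] R.carrier} (hψ : Fixes ξ ψ) :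
    ∃ ε : R.carrier →ₐ[Λ] R.carrier, Fixes ξ ε ∧ (∀ x, ε (ε x) = ε x) ∧
      ∀ n x, ψ x ∈ CRing.mpow R n → ε x ∈ CRing.mpow R n := by
  classical
  obtain ⟨hψr, -⟩ := id hψ
  let f : ∀ n, Module.End Λ (R.trunc n) := fun n =>
    (CRing.truncMapOfHom ψ hψr n).toAlgHom.toLinearMap
  have hf : ∀ n N x, (f n ^ N) ((R.truncHom n).1 x) = (R.truncHom n).1 ((ψ ^ N) x) := by
    intro n N
    induction N with
    | zero => exact fun x => rfl
    | succ N ih =>
      intro x
      rw [pow_succ, pow_succ, Module.End.mul_apply, AlgHom.mul_apply, ← ih]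
      rfl
  have hfit : ∀ n, ∃ N, IsCompl (LinearMap.ker (f n ^ N)) (LinearMap.range (f n ^ N)) ∧
      ∀ M, LinearMap.range (f n ^ N) ≤ LinearMap.range (f n ^ M) := fun n => by
    have := (finiteLength (R.trunc n)).1
    have := (finiteLength (R.trunc n)).2
    obtain ⟨N, hN⟩ := ((f n).eventually_isCompl_ker_pow_range_pow.and
      (f n).eventually_iInf_range_pow_eq).exists
    exact ⟨N, hN.1, fun M => hN.2 ▸ iInf_le _ M⟩
  choose N hN hNle using hfit
  let Q : ∀ n, R.trunc n → R.trunc n → Prop := fun n x y =>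
    (∀ M, y ∈ LinearMap.range (f n ^ M)) ∧ ∃ M, (f n ^ M) x = (f n ^ M) y
  have hex : ∀ n x, ∃ y, Q n x y := fun n x => by
    obtain ⟨a, ha, b, hb, e⟩ := Submodule.mem_sup.1
      ((hN n).sup_eq_top.ge (Submodule.mem_top : x ∈ ⊤))
    refine ⟨b, fun M => hNle n M hb, N n, ?_⟩
    rw [← e, map_add, LinearMap.mem_ker.1 ha, zero_add]
  have huniq : ∀ n x y y', Q n x y → Q n x y' → y = y' := by
    rintro n x y y' ⟨hy, M, hM⟩ ⟨hy', M', hM'⟩
    obtain ⟨z, hz⟩ := LinearMap.mem_range.1
      (sub_mem (hy (N n)) (hy' (N n)) : y - y' ∈ LinearMap.range (f n ^ N n))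
    have h1 : ∀ L, (f n ^ (L + M)) x = (f n ^ (L + M)) y := fun L => by
      rw [pow_add, Module.End.mul_apply, hM, Module.End.mul_apply]
    have h2 : ∀ L, (f n ^ (L + M')) x = (f n ^ (L + M')) y' := fun L => by
      rw [pow_add, Module.End.mul_apply, hM', Module.End.mul_apply]
    have h3 : (f n ^ (M' + M)) (y - y') = 0 := by
      rw [map_sub, sub_eq_zero, ← h1 M', add_comm M' M, h2 M]
    obtain ⟨w, hw⟩ := LinearMap.mem_range.1
      (hNle n (N n + (M' + M)) (LinearMap.mem_range_self (f n ^ N n) z))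
    have h4 : w ∈ LinearMap.ker (f n ^ (N n + (M' + M) + (M' + M))) := by
      rw [LinearMap.mem_ker, show N n + (M' + M) + (M' + M) = (M' + M) + (N n + (M' + M)) by ring,
        pow_add, Module.End.mul_apply, hw, hz, h3]
    have := (finiteLength (R.trunc n)).1
    have := (finiteLength (R.trunc n)).2
    obtain ⟨L, hL⟩ := Filter.eventually_atTop.1 (f n).eventually_isCompl_ker_pow_range_pow
    obtain ⟨v, hv⟩ := LinearMap.mem_range.1
      (hNle n (max L (M' + M)) (LinearMap.mem_range_self (f n ^ N n) z))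
    have h5 : (f n ^ (max L (M' + M))) ((f n ^ (max L (M' + M))) v) = 0 := by
      rw [hv, hz, show max L (M' + M) = (max L (M' + M) - (M' + M)) + (M' + M) from
        (Nat.sub_add_cancel (le_max_right _ _)).symm, pow_add, Module.End.mul_apply, h3, map_zero]
    have h6 : y - y' = 0 := by
      rw [← hz, ← hv]
      exact Submodule.disjoint_def.1 (hL _ (le_max_left _ _)).disjoint _ (LinearMap.mem_ker.2 h5)
        (LinearMap.mem_range_self _ _)
    exact sub_eq_zero.1 h6
  choose e he using hex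
  have fmul : ∀ n M a b, (f n ^ M) (a * b) = (f n ^ M) a * (f n ^ M) b := by
    intro n M
    induction M with
    | zero => exact fun a b => rfl
    | succ M ih =>
      intro a b
      rw [pow_succ, Module.End.mul_apply, Module.End.mul_apply, Module.End.mul_apply, ← ih]
      exact congrArg _ (map_mul (CRing.truncMapOfHom ψ hψr n).toAlgHom a b)
  have falg : ∀ n M (l : Λ), (f n ^ M) (algebraMap Λ (R.trunc n) l) = algebraMap Λ (R.trunc n) l := by
    intro n M l
    induction M with
    | zero => rfl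
    | succ M ih =>
      rw [pow_succ, Module.End.mul_apply]
      exact (congrArg _ ((CRing.truncMapOfHom ψ hψr n).toAlgHom.commutes l)).trans ih
  have halg : ∀ n (l : Λ), Q n (algebraMap Λ (R.trunc n) l) (algebraMap Λ (R.trunc n) l) := fun n l =>
    ⟨fun M => LinearMap.mem_range.2 ⟨_, falg n M l⟩, 0, rfl⟩
  let E : ∀ n, R.trunc n →ₐ[Λ] R.trunc n := fun n =>
    { toFun := e n
      map_one' := huniq n 1 _ _ (he n 1) (by
        have := halg n 1
        rwa [map_one] at this)
      map_mul' := fun a b => huniq n (a * b) _ _ (he n _) ⟨fun M => by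
          obtain ⟨z, hz⟩ := LinearMap.mem_range.1 ((he n a).1 M)
          obtain ⟨z', hz'⟩ := LinearMap.mem_range.1 ((he n b).1 M)
          exact LinearMap.mem_range.2 ⟨z * z', by rw [fmul, hz, hz']⟩, by
        obtain ⟨M, hM⟩ := (he n a).2
        obtain ⟨M', hM'⟩ := (he n b).2
        refine ⟨M + M', ?_⟩
        rw [fmul, fmul]
        congr 1
        · rw [add_comm, pow_add, Module.End.mul_apply, hM, Module.End.mul_apply]
        · rw [pow_add, Module.End.mul_apply, hM', Module.End.mul_apply]⟩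
      map_zero' := huniq n 0 _ _ (he n 0) ⟨fun M => zero_mem _, 0, rfl⟩
      map_add' := fun a b => huniq n (a + b) _ _ (he n _) ⟨fun M => add_mem ((he n a).1 M) ((he n b).1 M), by
        obtain ⟨M, hM⟩ := (he n a).2
        obtain ⟨M', hM'⟩ := (he n b).2
        refine ⟨M + M', ?_⟩
        rw [map_add, map_add]
        congr 1
        · rw [add_comm, pow_add, Module.End.mul_apply, hM, Module.End.mul_apply]
        · rw [pow_add, Module.End.mul_apply, hM', Module.End.mul_apply]⟩
      commutes' := fun l => huniq n _ _ _ (he n _) (halg n l) }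
  have hres : ∀ n M x, (R.trunc n).res ((f n ^ M) x) = (R.trunc n).res x := by
    intro n M
    induction M with
    | zero => exact fun x => rfl
    | succ M ih =>
      intro x
      rw [pow_succ, Module.End.mul_apply, ih]
      exact Art.res_app (CRing.truncMapOfHom ψ hψr n) x
  have hEres : ∀ n x, (R.trunc n).res (E n x) = (R.trunc n).res x := fun n x => by
    obtain ⟨M, hM⟩ := (he n x).2
    rw [← hres n M x, hM, hres]
    rfl
  let φ : ∀ n, HomSet R.carrier R.res (R.trunc n) := fun n =>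
    ⟨(E n).comp (R.truncHom n).1, AlgHom.ext fun x => (hEres n _).trans (res_truncHom R n x)⟩
  have htf : ∀ n M x, R.truncMap n ((f (n + 1) ^ M) x) = (f n ^ M) (R.truncMap n x) := by
    intro n M x
    obtain ⟨a, rfl⟩ := truncHom_surjective R (n + 1) x
    rw [hf, truncMap_apply, truncMap_apply, hf]
  have hQ : ∀ n x y, Q (n + 1) x y → Q n (R.truncMap n x) (R.truncMap n y) := by
    rintro n x y ⟨h1, M, h2⟩
    refine ⟨fun L => ?_, M, by rw [← htf, h2, htf]⟩
    obtain ⟨z, hz⟩ := LinearMap.mem_range.1 (h1 L)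
    exact LinearMap.mem_range.2 ⟨R.truncMap n z, by rw [← htf, hz]⟩
  obtain ⟨ε, hε, hεn⟩ := exists_hom_of_compat R φ fun n => Subtype.ext (AlgHom.ext fun x =>
    huniq n ((R.truncHom n).1 x) _ _ (hQ n _ _ (he (n + 1) ((R.truncHom (n + 1)).1 x)))
      (he n _))
  have hεe : ∀ n x, (R.truncHom n).1 (ε x) = e n ((R.truncHom n).1 x) := fun n x =>
    AlgHom.congr_fun (hεn n) x
  refine ⟨ε, (fixes_iff hε).2 (FormalElt.ext' fun n => ?_), fun x => hausdorff_ext R fun n => ?_,
    fun n x hx => ?_⟩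
  · obtain ⟨hr, hfix⟩ := hψ.pow (N n)
    let v : HomSet R.carrier R.res (R.trunc n) :=
      ⟨(R.truncHom n).1.comp ε, AlgHom.ext fun x => AlgHom.congr_fun hε x⟩
    show ξ.app _ v = ξ.app _ (R.truncHom n)
    refine (hfix _ v).symm.trans (Eq.trans ?_ (hfix _ (R.truncHom n)))
    refine app_congr ξ (AlgHom.ext fun x => ?_)
    show (R.truncHom n).1 (ε ((ψ ^ N n) x)) = (R.truncHom n).1 ((ψ ^ N n) x)
    rw [hεe]
    refine huniq n _ _ _ (he n _) ⟨fun M => hNle n M ?_, 0, rfl⟩
    rw [← hf]
    exact LinearMap.mem_range_self _ _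
  · rw [hεe n (ε x), hεe n x]
    exact huniq n _ _ _ (he n _) ⟨(he n _).1, 0, rfl⟩
  · rw [← truncHom_eq_zero_iff, hεe]
    refine huniq n _ _ _ (he n _) ⟨fun M => zero_mem _, 1, ?_⟩
    rw [hf, pow_one, map_zero]
    exact (truncHom_eq_zero_iff R n _).2 hx

/-- the quotient of a coefficient ring by an idempotent endomorphism -/
theorem exists_retract_of_idempotent {R : CRing Λ k} {ε : R.carrier →ₐ[Λ] R.carrier}
    (hε : R.res.comp ε = R.res) (hidem : ∀ x, ε (ε x) = ε x) :
    ∃ (R' : CRing Λ k) (π : R.carrier →ₐ[Λ] R'.carrier) (ι : R'.carrier →ₐ[Λ] R.carrier),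
      R'.res.comp π = R.res ∧ R.res.comp ι = R'.res ∧ π.comp ι = AlgHom.id Λ _ ∧ ι.comp π = ε := by
  let S := R.carrier ⧸ RingHom.ker ε
  have hle : RingHom.ker ε ≤ maximalIdeal R.carrier := fun x hx => by
    rw [CRing.mem_maximalIdeal_iff, ← hε, AlgHom.comp_apply, RingHom.mem_ker.1 hx, map_zero]
  have : Nontrivial S := Ideal.Quotient.nontrivial_iff.2
    (ne_top_of_le_ne_top (maximalIdeal.isMaximal R.carrier).ne_top hle)
  have : IsLocalRing S := IsLocalRing.of_surjective' (Ideal.Quotient.mk _) Ideal.Quotient.mk_surjective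
  let π : R.carrier →ₐ[Λ] S := Ideal.Quotient.mkₐ Λ (RingHom.ker ε)
  let ι : S →ₐ[Λ] R.carrier := Ideal.Quotient.liftₐ (RingHom.ker ε) ε fun _ hx => hx
  let res : S →ₐ[Λ] k := R.res.comp ι
  have hπι : π.comp ι = AlgHom.id Λ S := AlgHom.ext fun z => by
    obtain ⟨x, rfl⟩ := Ideal.Quotient.mk_surjective z
    exact Ideal.Quotient.eq.2 (RingHom.mem_ker.2 (by rw [map_sub, sub_eq_zero]; exact hidem x))
  have hres : Function.Surjective res := fun c => by
    obtain ⟨x, hx⟩ := R.res_surjective c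
    exact ⟨π x, (AlgHom.congr_fun hε x).trans hx⟩
  have hι : Ideal.map ι (maximalIdeal S) ≤ maximalIdeal R.carrier :=
    map_le_max (resR := res) ι hres R.res_surjective rfl
  have hπ : Ideal.map π (maximalIdeal R.carrier) ≤ maximalIdeal S :=
    map_le_max (resS := res) π R.res_surjective hres hε
  have hpι : ∀ n x, x ∈ maximalIdeal S ^ n → ι x ∈ maximalIdeal R.carrier ^ n := fun n x hx => by
    have := Ideal.mem_map_of_mem ι hx
    rw [Ideal.map_pow] at this
    exact Ideal.pow_right_mono hι n this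
  have hpπ : ∀ n x, x ∈ maximalIdeal R.carrier ^ n → π x ∈ maximalIdeal S ^ n := fun n x hx => by
    have := Ideal.mem_map_of_mem π hx
    rw [Ideal.map_pow] at this
    exact Ideal.pow_right_mono hπ n this
  have had : IsAdicComplete (maximalIdeal S) S :=
    { haus' := fun x hx => by
        have := R.isAdicComplete
        have h1 : ι x = 0 := IsHausdorff.haus (I := maximalIdeal R.carrier) inferInstance _ fun n => by
          rw [SModEq.zero, smul_eq_mul, Ideal.mul_top]
          have := hx n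
          rw [SModEq.zero, smul_eq_mul, Ideal.mul_top] at this
          exact hpι n x this
        rw [← AlgHom.id_apply (R := Λ) x, ← hπι, AlgHom.comp_apply, h1, map_zero]
      prec' := fun g hg => by
        have := R.isAdicComplete
        obtain ⟨L, hL⟩ := IsPrecomplete.prec (I := maximalIdeal R.carrier) inferInstance
          (f := fun n => ι (g n)) (fun {m n} hmn => by
            have := hg hmn
            rw [SModEq.sub_mem, smul_eq_mul, Ideal.mul_top] at this ⊢
            rw [← map_sub]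
            exact hpι m _ this)
        refine ⟨π L, fun n => ?_⟩
        have := hL n
        rw [SModEq.sub_mem, smul_eq_mul, Ideal.mul_top] at this ⊢
        have h2 := hpπ n _ this
        rwa [map_sub, show π (ι (g n)) = g n from AlgHom.congr_fun hπι (g n)] at h2 }
  exact ⟨{ carrier := S, res := res, res_surjective := hres, isAdicComplete := had },
    π, ι, hε, rfl, hπι, rfl⟩

/-- retracts compatible with the family -/
structure Retract {R : CRing Λ k} (ξ : Family R.carrier R.res F) : Type (u + 1) where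
  ring : CRing Λ k
  proj : R.carrier →ₐ[Λ] ring.carrier
  incl : ring.carrier →ₐ[Λ] R.carrier
  res_proj : ring.res.comp proj = R.res
  res_incl : R.res.comp incl = ring.res
  proj_incl : proj.comp incl = AlgHom.id Λ _
  fixes : Fixes ξ (incl.comp proj)

variable {R : CRing Λ k} {ξ : Family R.carrier R.res F}

/-- the family on a retract -/
def Retract.family (T : Retract ξ) : Family T.ring.carrier T.ring.res F := ξ.along T.proj T.res_proj

theorem Retract.family_along_incl (T : Retract ξ) (A : Art Λ k) (φ : HomSet R.carrier R.res A) :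
    (T.family.along T.incl T.res_incl).app A φ = ξ.app A φ := by
  obtain ⟨h, hfix⟩ := T.fixes
  refine Eq.trans ?_ (hfix A φ)
  exact app_congr ξ (AlgHom.comp_assoc _ _ _)

theorem Retract.versal (T : Retract ξ) (hξ : IsVersal ξ) : IsVersal T.family := by
  intro B A μ hμ φ y hy
  obtain ⟨χ, hχ₁, hχ₂⟩ := hξ μ hμ ⟨φ.1.comp T.proj, by rw [← AlgHom.comp_assoc, φ.2, T.res_proj]⟩ y hy
  refine ⟨⟨χ.1.comp T.incl, by rw [← AlgHom.comp_assoc, χ.2, T.res_incl]⟩,
    Subtype.ext (AlgHom.ext fun a => ?_), ?_⟩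
  · refine (AlgHom.congr_fun (congrArg Subtype.val hχ₁) (T.incl a)).trans ?_
    exact congrArg φ.1 (AlgHom.congr_fun T.proj_incl a)
  · refine Eq.trans ?_ hχ₂
    exact T.family_along_incl B χ

/-- A retract every endomorphism of which is surjective if it fixes the family. -/
theorem exists_minimal_retract [IsNoetherianRing Λ] [Module.Finite Λ k] (ξ : Family R.carrier R.res F) :
    ∃ T : Retract ξ, ∀ g, Fixes T.family g → Function.Surjective g := by
  classical
  let K : Retract ξ → Ideal R.carrier := fun T => RingHom.ker ((T.ring.truncHom 1).1.comp T.proj)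
  let T₀ : Retract ξ := ⟨R, AlgHom.id Λ _, AlgHom.id Λ _, AlgHom.comp_id _, AlgHom.comp_id _,
    AlgHom.comp_id _, (fixes_id ξ).comp (fixes_id ξ)⟩
  obtain ⟨J, ⟨T, rfl⟩, hmax⟩ :=
    WellFounded.has_min (r := ((· > ·) : Ideal R.carrier → Ideal R.carrier → Prop)) wellFounded_gt
      (Set.range K) ⟨_, T₀, rfl⟩
  refine ⟨T, fun g hgfix => ?_⟩
  obtain ⟨hg, -⟩ := id hgfix
  obtain ⟨ε, hεfix, hidem, hεker⟩ := exists_idempotent hgfix
  obtain ⟨hε, hεfix'⟩ := id hεfix
  obtain ⟨R₂, π, ι, hπ, hι, hπι, hιπ⟩ := exists_retract_of_idempotent hε hidem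
  have hπε : π.comp ε = π := by rw [← hιπ, ← AlgHom.comp_assoc, hπι, AlgHom.id_comp]
  let T₂ : Retract ξ :=
    { ring := R₂
      proj := π.comp T.proj
      incl := T.incl.comp ι
      res_proj := by rw [← AlgHom.comp_assoc, hπ, T.res_proj]
      res_incl := by rw [← AlgHom.comp_assoc, T.res_incl, hι]
      proj_incl := by
        rw [AlgHom.comp_assoc, ← AlgHom.comp_assoc T.proj, T.proj_incl, AlgHom.id_comp, hπι]
      fixes := by
        refine ⟨?_, fun A φ => ?_⟩
        · refine AlgHom.ext fun x => ?_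
          exact (AlgHom.congr_fun T.res_incl (ι (π (T.proj x)))).trans
            ((AlgHom.congr_fun hι _).trans ((AlgHom.congr_fun hπ _).trans (AlgHom.congr_fun T.res_proj x)))
        · refine Eq.trans ?_ (T.family_along_incl A φ)
          refine Eq.trans ?_ (hεfix' A ⟨φ.1.comp T.incl, by rw [← AlgHom.comp_assoc, φ.2, T.res_incl]⟩)
          refine app_congr ξ (AlgHom.ext fun x => ?_)
          exact congrArg (fun z => φ.1 (T.incl z)) (AlgHom.congr_fun hιπ (T.proj x)) }
  have hKle : K T ≤ K T₂ := fun x hx => by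
    refine RingHom.mem_ker.2 ?_
    show (R₂.truncHom 1).1 (π (T.proj x)) = 0
    have h1 : CRing.truncMapOfHom π hπ 1 ((T.ring.truncHom 1).1 (T.proj x)) =
        (R₂.truncHom 1).1 (π (T.proj x)) := rfl
    rw [← h1, show (T.ring.truncHom 1).1 (T.proj x) = 0 from hx]
    exact map_zero _
  have hKeq : K T₂ ≤ K T := le_of_eq
    (((eq_or_lt_of_le hKle).resolve_right fun hlt => hmax _ ⟨T₂, rfl⟩ hlt).symm)
  let g₁ := CRing.truncMapOfHom g hg 1
  have hinj : Function.Injective g₁.toAlgHom := (injective_iff_map_eq_zero g₁.toAlgHom).2 fun z hz => by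
    obtain ⟨x, rfl⟩ := truncHom_surjective T.ring 1 z
    have h1 : g x ∈ CRing.mpow T.ring 1 := (truncHom_eq_zero_iff T.ring 1 _).1 hz
    have h2 : π x ∈ CRing.mpow R₂ 1 := by
      rw [← hπε]
      exact CRing.mpow_le_comap π hπ 1 (hεker 1 x h1)
    have h3 : T.incl x ∈ K T₂ := RingHom.mem_ker.2 ((truncHom_eq_zero_iff R₂ 1 _).2 (by
      show π (T.proj (T.incl x)) ∈ _
      rw [show T.proj (T.incl x) = x from AlgHom.congr_fun T.proj_incl x]
      exact h2))
    have h4 : (T.ring.truncHom 1).1 (T.proj (T.incl x)) = 0 := hKeq h3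
    rwa [show T.proj (T.incl x) = x from AlgHom.congr_fun T.proj_incl x] at h4
  have hsurj : Function.Surjective g₁.toAlgHom := by
    have := (finiteLength (T.ring.trunc 1)).2
    exact IsArtinian.surjective_of_injective_endomorphism g₁.toAlgHom.toLinearMap hinj
  have := T.ring.isAdicComplete
  refine surjective_of_cotangent g T.ring.res_surjective T.ring.res_surjective hg
    (le_antisymm (sup_le (map_le_max g T.ring.res_surjective T.ring.res_surjective hg)
      (Ideal.pow_le_self two_ne_zero)) fun x hx => ?_)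
  obtain ⟨z, hz⟩ := hsurj ((T.ring.truncHom 1).1 x)
  obtain ⟨y, rfl⟩ := truncHom_surjective T.ring 1 z
  have h1 : g y - x ∈ maximalIdeal T.ring.carrier ^ 2 := (truncHom_eq_iff T.ring 1 _ _).1 hz
  have h2 : g y ∈ maximalIdeal T.ring.carrier := by
    have := add_mem (Ideal.pow_le_self two_ne_zero h1) hx
    rwa [sub_add_cancel] at this
  have h3 : y ∈ maximalIdeal T.ring.carrier := (CRing.mem_maximalIdeal_iff _ _).2
    ((AlgHom.congr_fun hg y).symm.trans ((CRing.mem_maximalIdeal_iff _ _).1 h2))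
  rw [show x = g y - (g y - x) by ring]
  exact sub_mem (Ideal.mem_sup_left (Ideal.mem_map_of_mem g h3)) (Ideal.mem_sup_right h1)

end Groth.Agent.ArtFunLib
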