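import Groth.Agent.ArtFunLib.Tangent

/-!
# The action of the tangent space on the fibres over small extensions
-/

universe u v

open CategoryTheory IsLocalRing ArtFun

namespace Groth.Agent.ArtFunLib

variable {Λ : Type u} {k : Type u} [CommRing Λ] [Field k] [Algebra Λ k]
variable {F G : Art Λ k ⥤ Type v}

theorem zeroHom_map_eq (h0 : H0 F) {A B : Art Λ k} (x : F.obj A) (y : F.obj B) :
    F.map (zeroHom A) x = F.map (zeroHom B) y := by
  rw [zeroHom, zeroHom, ← map_map, ← map_map, base_eq h0 (F.map (Art.toBase A) x) (F.map (Art.toBase B) y)]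

variable [IsNoetherianRing Λ] [Module.Finite Λ k]

/-- Two lifts with the same image under a tangent-injective morphism agree. -/
theorem eq_of_lift_of_injective (hF0 : H0 F) (hF1 : Hbar F) (hF2 : Heps F)
    (hG4 : HSq G) (hG2 : Heps G) (η : F ⟶ G)
    (hd : Function.Injective (η.app (Art.dual Λ k))) {A B : Art Λ k} {p : B ⟶ A}
    (hp : Art.IsSmallExt p) {y y' : F.obj B} (he : F.map p y = F.map p y')
    (hη : η.app B y = η.app B y') : y = y' := by
  obtain ⟨t, ht⟩ := hp.2.2.1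
  obtain ⟨P, p₁, p₂, hP⟩ := exists_fibreProd p p hp.1
  obtain ⟨g, hdiff, hg⟩ := exists_diff hp ht hP
  obtain ⟨d, hd₁, hd₂⟩ := IsFibreProd.exists_lift hP (𝟙 B) (𝟙 B) rfl
  obtain ⟨w, hw, hw'⟩ := (cmp_surjective_iff hP).1 (hF1 _ _ _ _ hP hp) y y' he
  have hηw : η.app P w = η.app P (F.map d y) := by
    refine (cmp_injective_iff hP).1 (hG4 _ _ _ hP hp).1 _ _ ?_ ?_
    · rw [← nat_app, ← nat_app, hw, map_map, hd₁, map_id']
    · rw [← nat_app, ← nat_app, hw', map_map, hd₂, map_id', hη]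
  have hθ : F.map g w = F.map g (F.map d y) := hd (by rw [nat_app, nat_app, hηw])
  have : w = F.map d y := (cmp_injective_iff hg).1 (hF2 _ _ hg).1 _ _
    (by rw [hw, map_map, hd₁, map_id']) hθ
  rw [← hw', this, map_map, hd₂, map_id']

/-- Lifting against a tangent-surjective morphism. -/
theorem exists_lift_of_surjective (hF0 : H0 F) (hF2 : Heps F) (hG1 : Hbar G) (hG2 : Heps G)
    (η : F ⟶ G) (hd : Function.Surjective (η.app (Art.dual Λ k))) {A B : Art Λ k} {p : B ⟶ A}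
    (hp : Art.IsSmallExt p) (z : F.obj B) (y : G.obj B)
    (he : η.app A (F.map p z) = G.map p y) :
    ∃ z' : F.obj B, F.map p z' = F.map p z ∧ η.app B z' = y := by
  obtain ⟨t, ht⟩ := hp.2.2.1
  obtain ⟨P, p₁, p₂, hP⟩ := exists_fibreProd p p hp.1
  obtain ⟨g, -, hg⟩ := exists_diff hp ht hP
  obtain ⟨w, hw, hw'⟩ := (cmp_surjective_iff hP).1 (hG1 _ _ _ _ hP hp) (η.app B z) y
    (by rw [← nat_app, he])
  obtain ⟨θ, hθ⟩ := hd (G.map g w)
  obtain ⟨w', hw1, hw2⟩ := (cmp_surjective_iff hg).1 (hF2 _ _ hg).2 z θ (base_eq hF0 _ _)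
  have key : η.app P w' = w := (cmp_injective_iff hg).1 (hG2 _ _ hg).1 _ _
      (by rw [← nat_app, hw1, hw]) (by rw [← nat_app, hw2]; exact hθ)
  refine ⟨F.map p₂ w', ?_, ?_⟩
  · rw [map_map, ← hP.w, ← map_map, hw1]
  · rw [nat_app, key, hw']

/-- Homogeneity from the three conditions of the criterion. -/
theorem cmp_bijective_small_of_hsq (h0 : H0 F) (h1 : Hbar F) (h2 : Heps F) (h4 : HSq F)
    {B A A' A'' : Art Λ k} {p' : B ⟶ A'} {p'' : B ⟶ A''} {f' : A' ⟶ A} {f'' : A'' ⟶ A}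
    (h : Art.IsFibreProd p' p'' f' f'') (hf : Art.IsSmallExt f'') :
    Function.Bijective (cmp F h) := by
  refine ⟨(cmp_injective_iff h).2 fun z z' e e' => ?_, h1 _ _ _ _ h hf⟩
  obtain ⟨t, ht⟩ := hf.2.2.1
  have ht0 : f'' t = 0 := RingHom.mem_ker.1 (ht ▸ Ideal.mem_span_singleton_self t)
  obtain ⟨t', ht₁, ht₂⟩ := h.surj 0 t (by rw [map_zero, ht0])
  have hker : RingHom.ker p'.toAlgHom = Ideal.span {t'} := by
    apply le_antisymm
    · intro b hb
      have : p'' b ∈ RingHom.ker f''.toAlgHom := RingHom.mem_ker.2 (by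
        rw [← h.w_apply, RingHom.mem_ker.1 hb, map_zero])
      rw [ht] at this
      obtain ⟨c, hc⟩ := Ideal.mem_span_singleton'.1 this
      obtain ⟨a₁, ha₁⟩ := A'.res_surjective (A''.res c)
      obtain ⟨r, hr⟩ := IsFibreProd.surjective_fst h hf.1 a₁
      refine Ideal.mem_span_singleton'.2 ⟨r, h.inj _ _ ?_ ?_⟩
      · rw [map_mul, ht₁, mul_zero, RingHom.mem_ker.1 hb]
      · rw [map_mul, ht₂, ← hc, ← sub_eq_zero, ← sub_mul]
        refine mul_eq_zero_of_semismall hf.isSemismallExt ((A''.mem_maximalIdeal_iff _).2 ?_) ht0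
        rw [map_sub, Art.res_app p'' r, ← Art.res_app p' r, hr, ha₁, sub_self]
    · rw [Ideal.span_le, Set.singleton_subset_iff]
      exact RingHom.mem_ker.2 ht₁
  have hp : Art.IsSmallExt p' := by
    refine ⟨IsFibreProd.surjective_fst h hf.1, ?_, ⟨⟨t', hker⟩⟩, ?_⟩
    · intro hb
      rw [hker, Ideal.span_singleton_eq_bot] at hb
      rw [hb, map_zero] at ht₂
      exact hf.2.1 (by rw [ht, ← ht₂, Ideal.span_singleton_eq_bot])
    · rw [eq_bot_iff, Ideal.mul_le]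
      intro a ha b hb
      refine h.inj _ _ (by rw [map_mul, RingHom.mem_ker.1 hb, mul_zero, map_zero]) ?_
      rw [map_mul, map_zero]
      exact mul_eq_zero_of_semismall hf.isSemismallExt (map_mem_max p'' ha)
        (by rw [← h.w_apply, RingHom.mem_ker.1 hb, map_zero])
  obtain ⟨P, π₁, π₂, hP⟩ := exists_fibreProd p' p' hp.1
  obtain ⟨g, hgdiff, hg⟩ := exists_diff hp hker hP
  obtain ⟨P'', σ₁, σ₂, hP''⟩ := exists_fibreProd f'' f'' hf.1
  obtain ⟨g'', hgdiff'', hg''⟩ := exists_diff hf ht hP''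
  obtain ⟨r, hr₁, hr₂⟩ := IsFibreProd.exists_lift hP'' (π₁ ≫ p'') (π₂ ≫ p'')
    (by rw [Category.assoc, Category.assoc, ← h.w, ← Category.assoc, ← Category.assoc, hP.w])
  have hcompat : r ≫ g'' = g := by
    refine hom_dual_ext fun x => ?_
    obtain ⟨c, hc⟩ := B.res_surjective (TrivSqZeroExt.snd (g x))
    obtain ⟨c', hc'⟩ := A''.res_surjective (TrivSqZeroExt.snd ((r ≫ g'') x))
    have e₁ := congrArg (fun b => p'' b) (hgdiff x c hc)
    have e₂ := hgdiff'' (r x) c' hc'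
    simp only [map_mul, map_sub, ht₂] at e₁
    rw [← comp_apply' r σ₁, ← comp_apply' r σ₂, hr₁, hr₂, comp_apply', comp_apply', ← e₁] at e₂
    rw [← hc, ← hc', ← Art.res_app p'' c, ← sub_eq_zero, ← map_sub, ← A''.mem_maximalIdeal_iff,
      IsLocalRing.mem_maximalIdeal]
    intro hu
    refine hf.2.1 ?_
    have htz : t = 0 := hu.mul_right_eq_zero.1 (by rw [sub_mul, e₂, sub_self])
    rw [ht, htz, Ideal.span_singleton_eq_bot]
  obtain ⟨w, hw, hw'⟩ := (cmp_surjective_iff hP).1 (h4 _ _ _ hP hp).2 z z' e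
  obtain ⟨d, hd₁, hd₂⟩ := IsFibreProd.exists_lift hP (𝟙 B) (𝟙 B) rfl
  obtain ⟨d'', hd''₁, hd''₂⟩ := IsFibreProd.exists_lift hP'' (𝟙 A'') (𝟙 A'') rfl
  have hdw : F.map r w = F.map d'' (F.map p'' z) := by
    refine (cmp_injective_iff hP'').1 (h4 _ _ _ hP'' hf).1 _ _ ?_ ?_
    · rw [map_map, hr₁, ← map_map, hw, map_map F d'' σ₁, hd''₁, map_id']
    · rw [map_map, hr₂, ← map_map, hw', map_map F d'' σ₂, hd''₂, map_id', e']
  have hθ : F.map g w = F.map g (F.map d z) := by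
    rw [map_map F d g, diag_diff hp hker hP hgdiff hd₁ hd₂, ← hcompat, ← map_map, hdw, map_map,
      diag_diff hf ht hP'' hgdiff'' hd''₁ hd''₂]
    exact zeroHom_map_eq h0 _ _
  have : w = F.map d z := (cmp_injective_iff hg).1 (h2 _ _ hg).1 _ _
    (by rw [hw, map_map, hd₁, map_id']) hθ
  rw [← hw', this, map_map, hd₂, map_id']

end Groth.Agent.ArtFunLib
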